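import Groth.Agent.ConsPropLib.CoreProper
import Groth.Agent.MorLib.BaseChangeLim
import Groth.Agent.MorLib.EventuallyCIStr

/-! A limit of closed subschemes which is proper over the base is eventually proper. -/

set_option autoImplicit false
set_option linter.style.haveILetI false
set_option backward.isDefEq.respectTransparency false
set_option backward.isDefEq.respectTransparency.types false
universe u

namespace Groth.Agent.Graft

open AlgebraicGeometry CategoryTheory Limits TopologicalSpace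
open Groth.Agent.MorLib

variable {I : Type u} [SmallCategory I] [IsCofiltered I] {D : I ⥤ Scheme.{u}} {c : Cone D}
  (hc : IsLimit c) [hcl : ∀ {i j : I} (f : i ⟶ j), IsClosedImmersion (D.map f)]
include hc

set_option backward.isDefEq.respectTransparency.types false in
theorem exists_isProper_affine {X' S : Scheme.{u}} [IsAffine S] (f' : X' ⟶ S) [IsSeparated f']
    [LocallyOfFinitePresentation f'] [QuasiCompact f'] {i₀ : I} (a : D.obj i₀ ⟶ X')
    [IsClosedImmersion a] [IsClosedImmersion (c.π.app i₀)] [IsProper (c.π.app i₀ ≫ a ≫ f')] :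
    ∃ j : Over i₀, ∀ n : Over i₀, Nonempty (n ⟶ j) → IsProper (D.map n.hom ≫ a ≫ f') := by
  classical
  obtain ⟨S₁, X₁, ρ, f₁, q, hN, hA, hft, hqc, hsep, sq⟩ := ConsPropLib.exists_separated_model f'
  haveI := hN; haveI := hA; haveI := hft; haveI := hqc; haveI := hsep
  obtain ⟨C⟩ := ConsPropLib.exists_chowCover f₁
  haveI := C.fin
  haveI : ∀ k, IsProper (C.q k) := C.proper_q
  haveI : ∀ k, IsProper (C.π k) := C.proper_π
  haveI : ∀ k, Mono (C.p k) := C.mono_p
  haveI : CompactSpace X' := QuasiCompact.compactSpace_of_compactSpace f'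
  haveI : QuasiSeparatedSpace X' := quasiSeparatedSpace_of_quasiSeparated f'
  haveI : CompactSpace (D.obj i₀) := QuasiCompact.compactSpace_of_compactSpace a
  haveI : QuasiSeparatedSpace (D.obj i₀) := quasiSeparatedSpace_of_quasiSeparated a
  haveI : ∀ {i j : I} (f : i ⟶ j), IsAffineHom (D.map f) := fun f => inferInstance
  let π' : ∀ k, pullback (C.π k) q ⟶ X' := fun k => pullback.snd (C.π k) q
  let q' : ∀ k, pullback (C.q k) ρ ⟶ S := fun k => pullback.snd (C.q k) ρ
  let p' : ∀ k, pullback (C.π k) q ⟶ pullback (C.q k) ρ := fun k =>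
    pullback.lift (pullback.fst _ _ ≫ C.p k) (π' k ≫ f')
      (by rw [Category.assoc, C.comm k, pullback.condition_assoc, sq.w, Category.assoc])
  have hp'f : ∀ k, p' k ≫ q' k = π' k ≫ f' := fun k => pullback.lift_snd _ _ _
  haveI : ∀ k, Mono (p' k) := fun k => ⟨fun {T} t t' e => by
    have h1 : t ≫ pullback.fst (C.π k) q = t' ≫ pullback.fst (C.π k) q := by
      have hf : p' k ≫ pullback.fst (C.q k) ρ = pullback.fst (C.π k) q ≫ C.p k :=
        pullback.lift_fst _ _ _
      rw [← cancel_mono (C.p k), Category.assoc, Category.assoc, ← hf, reassoc_of% e]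
    refine pullback.hom_ext h1 (sq.hom_ext ?_ ?_)
    · rw [Category.assoc, Category.assoc, ← pullback.condition, ← Category.assoc, h1, Category.assoc]
    · show (t ≫ π' k) ≫ f' = (t' ≫ π' k) ≫ f'
      rw [Category.assoc, Category.assoc, ← hp'f, reassoc_of% e]⟩
  let xi : ∀ k, pullback (π' k) a ⟶ D.obj i₀ := fun k => pullback.snd (π' k) a
  let m : ∀ k, pullback (π' k) a ⟶ pullback (C.q k) ρ := fun k => pullback.fst (π' k) a ≫ p' k
  have hm : ∀ k, m k ≫ q' k = xi k ≫ a ≫ f' := fun k => by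
    show (pullback.fst (π' k) a ≫ p' k) ≫ q' k = _
    rw [Category.assoc, hp'f, pullback.condition_assoc]
  have hstage : ∀ k, ∃ j : Over i₀, ∀ n : Over i₀, Nonempty (n ⟶ j) →
      IsClosedImmersion (pullback.fst (xi k) (D.map n.hom) ≫ m k) := by
    intro k
    haveI : CompactSpace ↥(pullback (π' k) a) := QuasiCompact.compactSpace_of_compactSpace (xi k)
    haveI : QuasiSeparatedSpace ↥(pullback (π' k) a) := quasiSeparatedSpace_of_quasiSeparated (xi k)
    haveI : CompactSpace ↥(pullback (C.q k) ρ) := QuasiCompact.compactSpace_of_compactSpace (q' k)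
    haveI : QuasiSeparatedSpace ↥(pullback (C.q k) ρ) := quasiSeparatedSpace_of_quasiSeparated (q' k)
    have hX : IsPullback (pullback.fst (xi k) (c.π.app i₀)) (pullback.snd (xi k) (c.π.app i₀))
        (xi k) (c.π.app i₀) := IsPullback.of_hasPullback _ _
    haveI hcl' : ∀ {b b' : Over i₀} (f : b ⟶ b'), IsClosedImmersion ((BC.diag D (xi k)).map f) :=
      fun f => MorphismProperty.of_isPullback (BC.isPullback_map D (xi k) f).flip (hcl f.left)
    let o : Over i₀ := Over.mk (𝟙 i₀)
    let t : (BC.diag D (xi k)).obj o ⟶ pullback (C.q k) ρ :=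
      pullback.fst (xi k) (D.map o.hom) ≫ m k
    haveI : LocallyOfFiniteType (m k) := by
      haveI : LocallyOfFiniteType (m k ≫ q' k) := by rw [hm]; infer_instance
      exact locallyOfFiniteType_of_comp (m k) (q' k)
    haveI : LocallyOfFiniteType t := by
      haveI : LocallyOfFiniteType (pullback.fst (xi k) (D.map o.hom)) :=
        MorphismProperty.pullback_fst _ _ inferInstance
      exact inferInstanceAs (LocallyOfFiniteType (pullback.fst (xi k) (D.map o.hom) ≫ m k))
    haveI : IsClosedImmersion ((BC.cone D (xi k) hX).π.app o ≫ t) := by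
      show IsClosedImmersion (BC.proj D (xi k) hX o ≫ pullback.fst (xi k) (D.map o.hom) ≫ m k)
      rw [BC.proj_fst_assoc]
      haveI : IsProper ((pullback.fst (xi k) (c.π.app i₀) ≫ m k) ≫ q' k) := by
        rw [Category.assoc, hm, pullback.condition_assoc]; infer_instance
      haveI : IsProper (pullback.fst (xi k) (c.π.app i₀) ≫ m k) :=
        IsProper.of_comp _ (q' k)
      haveI : Mono (pullback.fst (xi k) (c.π.app i₀) ≫ m k) := inferInstance
      exact (IsClosedImmersion.iff_isProper_and_mono _).2 ⟨inferInstance, inferInstance⟩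
    obtain ⟨j, hj⟩ := EvCI.exists_isClosedImmersion_structure (BC.isLimitCone D (xi k) hX hc) o t
    refine ⟨j.left, fun n hn => ?_⟩
    obtain ⟨ψ⟩ := hn
    have hto : ∀ (x : Over i₀) (u v : x ⟶ o), u = v := fun x u v => Over.OverMorphism.ext (by
      have hu : u.left ≫ 𝟙 i₀ = x.hom := Over.w u
      have hv : v.left ≫ 𝟙 i₀ = x.hom := Over.w v
      exact ((Category.comp_id _).symm.trans hu).trans ((Category.comp_id _).symm.trans hv).symm)
    let s : n ⟶ o := Over.homMk n.hom (by simp [o])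
    have h := hj (Over.mk s) (Over.homMk ψ (hto _ _ _))
    have e : (BC.diag D (xi k)).map s ≫ t = pullback.fst (xi k) (D.map n.hom) ≫ m k := by
      show (BC.diag D (xi k)).map s ≫ pullback.fst (xi k) (D.map o.hom) ≫ m k = _
      rw [← Category.assoc, BC.map_fst]
    exact e ▸ h
  choose j hj using hstage
  haveI : Fintype C.ι := Fintype.ofFinite _
  obtain ⟨j₀, hj₀⟩ := IsCofiltered.inf_objs_exists (Finset.univ.image j)
  refine ⟨j₀, fun n hn => ?_⟩
  obtain ⟨ψ⟩ := hn
  haveI : ∀ k, UniversallyClosed (pullback.snd (xi k) (D.map n.hom) ≫ D.map n.hom ≫ a ≫ f') :=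
    fun k => by
      haveI := hj k n ⟨ψ ≫ (hj₀ (Finset.mem_image_of_mem j (Finset.mem_univ k))).some⟩
      rw [← pullback.condition_assoc, ← hm, ← Category.assoc]
      infer_instance
  haveI : UniversallyClosed (D.map n.hom ≫ a ≫ f') :=
    ConsPropLib.universallyClosed_of_jointly_surjective (D.map n.hom ≫ a ≫ f')
      (fun k => pullback.snd (xi k) (D.map n.hom)) fun x => by
        obtain ⟨k, z, hz⟩ := C.surj (q (a (D.map n.hom x)))
        obtain ⟨w, -, hw⟩ := Scheme.Pullback.exists_preimage_pullback (f := C.π k) (g := q) z _ hz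
        obtain ⟨v, -, hv⟩ := Scheme.Pullback.exists_preimage_pullback (f := π' k) (g := a) w _ hw
        obtain ⟨u, -, hu⟩ := Scheme.Pullback.exists_preimage_pullback (f := xi k)
          (g := D.map n.hom) v _ hv
        exact ⟨k, u, hu⟩
  haveI : LocallyOfFiniteType (D.map n.hom) := inferInstance
  exact ⟨⟩

/-- A limit of closed subschemes of a separated scheme of finite presentation which is proper over the
base is eventually proper over the base. -/
theorem exists_isProper {X' S : Scheme.{u}} [CompactSpace S] (f' : X' ⟶ S) [IsSeparated f']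
    [LocallyOfFinitePresentation f'] [QuasiCompact f'] {i₀ : I} (a : D.obj i₀ ⟶ X')
    [IsClosedImmersion a] [IsClosedImmersion (c.π.app i₀)] [IsProper (c.π.app i₀ ≫ a ≫ f')] :
    ∃ j : Over i₀, IsProper (D.map j.hom ≫ a ≫ f') := by
  classical
  obtain ⟨s, hs, hcov⟩ := isCompact_iff_finite_and_eq_biUnion_affineOpens.mp
    (show IsCompact ((⊤ : S.Opens) : Set S) from isCompact_univ)
  have hloc : ∀ V : S.affineOpens, ∃ j : Over i₀, ∀ n : Over i₀, Nonempty (n ⟶ j) →
      IsProper ((D.map n.hom ≫ a ≫ f') ∣_ V.1) := by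
    intro V
    haveI : IsAffine (V.1 : Scheme.{u}) := V.2
    let W : (D.obj i₀).Opens := (a ≫ f') ⁻¹ᵁ V.1
    let a' : (W : Scheme.{u}) ⟶ (f' ⁻¹ᵁ V.1 : Scheme.{u}) := a ∣_ (f' ⁻¹ᵁ V.1)
    have ha' : a' ≫ (f' ⁻¹ᵁ V.1).ι = W.ι ≫ a := morphismRestrict_ι _ _
    haveI : IsClosedImmersion a' := IsZariskiLocalAtTarget.restrict (P := @IsClosedImmersion) inferInstance _
    haveI : IsSeparated (f' ∣_ V.1) := IsZariskiLocalAtTarget.restrict (P := @IsSeparated) inferInstance _
    haveI : QuasiCompact (f' ∣_ V.1) := IsZariskiLocalAtTarget.restrict (P := @QuasiCompact) inferInstance _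
    haveI : LocallyOfFinitePresentation (f' ∣_ V.1) :=
      IsZariskiLocalAtTarget.restrict (P := @LocallyOfFinitePresentation) inferInstance _
    haveI hcl' : ∀ {b b' : Over i₀} (φ : b ⟶ b'),
        IsClosedImmersion ((opensDiagram D i₀ W).map φ) := fun {b b'} φ => by
      refine MorphismProperty.of_isPullback (P := @IsClosedImmersion)
        (IsOpenImmersion.isPullback ((opensDiagram D i₀ W).map φ) (D.map b.hom ⁻¹ᵁ W).ι
          (D.map b'.hom ⁻¹ᵁ W).ι (D.map φ.left) (Scheme.Hom.resLE_comp_ι _ _).symm ?_).flip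
        (hcl φ.left)
      rw [Scheme.Opens.opensRange_ι, Scheme.Opens.opensRange_ι, ← Scheme.Hom.comp_preimage,
        ← D.map_comp, Over.w φ]
    let o : Over i₀ := Over.mk (𝟙 i₀)
    let a'' : (opensDiagram D i₀ W).obj o ⟶ (f' ⁻¹ᵁ V.1 : Scheme.{u}) :=
      (D.map o.hom).resLE W (D.map o.hom ⁻¹ᵁ W) le_rfl ≫ a'
    have hres : ∀ (b : Over i₀),
        IsClosedImmersion ((D.map b.hom).resLE W (D.map b.hom ⁻¹ᵁ W) le_rfl) := fun b => by
      rw [Scheme.Hom.resLE_eq_morphismRestrict]
      exact IsZariskiLocalAtTarget.restrict (P := @IsClosedImmersion) (hcl b.hom) _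
    haveI : IsClosedImmersion a'' := by
      haveI := hres o
      infer_instance
    have hπ : IsClosedImmersion ((opensCone D c i₀ W).π.app o) := by
      refine MorphismProperty.of_isPullback (P := @IsClosedImmersion)
        (IsOpenImmersion.isPullback ((opensCone D c i₀ W).π.app o) (c.π.app i₀ ⁻¹ᵁ W).ι
          (D.map o.hom ⁻¹ᵁ W).ι (c.π.app o.left) (Scheme.Hom.resLE_comp_ι _ _).symm ?_).flip
        ‹IsClosedImmersion (c.π.app i₀)›
      rw [Scheme.Opens.opensRange_ι, Scheme.Opens.opensRange_ι, ← Scheme.Hom.comp_preimage, c.w]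
    haveI := hπ
    haveI : IsProper ((opensCone D c i₀ W).π.app o ≫ a'' ≫ (f' ∣_ V.1)) := by
      have e : (opensCone D c i₀ W).π.app o ≫ a'' ≫ (f' ∣_ V.1) =
          (c.π.app i₀ ≫ a ≫ f') ∣_ V.1 := by
        rw [← cancel_mono V.1.ι, morphismRestrict_ι]
        show ((c.π.app o.left).resLE _ _ _ ≫ ((D.map o.hom).resLE W _ _ ≫
          a') ≫ (f' ∣_ V.1)) ≫ V.1.ι = _
        simp only [Category.assoc, morphismRestrict_ι, reassoc_of% ha',
          Scheme.Hom.resLE_comp_ι_assoc, c.w_assoc]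
        rfl
      rw [e]
      exact IsZariskiLocalAtTarget.restrict (P := @IsProper) inferInstance _
    obtain ⟨j, hj⟩ := exists_isProper_affine
      (isLimitOpensCone D c hc i₀ W) (f' ∣_ V.1) a''
    refine ⟨j.left, fun n hn => ?_⟩
    obtain ⟨ψ⟩ := hn
    have hto : ∀ (x : Over i₀) (u v : x ⟶ o), u = v := fun x u v => Over.OverMorphism.ext (by
      have hu : u.left ≫ 𝟙 i₀ = x.hom := Over.w u
      have hv : v.left ≫ 𝟙 i₀ = x.hom := Over.w v
      exact ((Category.comp_id _).symm.trans hu).trans ((Category.comp_id _).symm.trans hv).symm)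
    let s : n ⟶ o := Over.homMk n.hom (by simp [o])
    have h := hj (Over.mk s) ⟨Over.homMk ψ (hto _ _ _)⟩
    have e : (opensDiagram D i₀ W).map s ≫ a'' ≫ (f' ∣_ V.1) =
        (D.map n.hom ≫ a ≫ f') ∣_ V.1 := by
      rw [← cancel_mono V.1.ι, morphismRestrict_ι]
      show ((D.map n.hom).resLE _ _ _ ≫ ((D.map o.hom).resLE W _ _ ≫
        a') ≫ (f' ∣_ V.1)) ≫ V.1.ι = _
      simp only [Category.assoc, morphismRestrict_ι, reassoc_of% ha',
        Scheme.Hom.resLE_comp_ι_assoc]
      exact congrArg (fun m => (D.map n.hom ⁻¹ᵁ W).ι ≫ D.map n.hom ≫ m)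
        ((congrArg (· ≫ a ≫ f') (D.map_id i₀)).trans (Category.id_comp _))
    exact e ▸ h
  choose j hj using hloc
  obtain ⟨j₀, hj₀⟩ := IsCofiltered.inf_objs_exists (hs.toFinset.image j)
  refine ⟨j₀, IsZariskiLocalAtTarget.of_iSup_eq_top (P := @IsProper)
    (fun V : hs.toFinset => V.1.1) (top_le_iff.mp fun x _ => ?_)
    fun V => hj V.1 j₀ ⟨(hj₀ (Finset.mem_image_of_mem j V.2)).some⟩⟩
  have hx : x ∈ (⊤ : S.Opens) := trivial
  rw [hcov] at hx
  obtain ⟨O, hx⟩ := Opens.mem_iSup.mp hx
  obtain ⟨hO, hxO⟩ := Opens.mem_iSup.mp hx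
  exact Opens.mem_iSup.mpr ⟨⟨O, hs.mem_toFinset.mpr hO⟩, hxO⟩

end Groth.Agent.Graft
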