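import Groth.Agent.Graft.Step
import Mathlib.AlgebraicGeometry.Morphisms.FiniteType

/-! Closed immersions of schemes locally of finite type into schemes of finite presentation. -/

set_option autoImplicit false
set_option linter.style.haveILetI false
universe u

namespace Groth.Agent.Graft

open AlgebraicGeometry CategoryTheory Limits TopologicalSpace Opposite

theorem HasModel.of_iso {X X' S : Scheme.{u}} {f : X ⟶ S} (h : HasModel f) (e : X' ≅ X) :
    HasModel (e.hom ≫ f) := by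
  obtain ⟨P, p, k, hc, hq, hp, hk, rfl⟩ := h
  exact ⟨P, p, e.hom ≫ k, hc, hq, hp, inferInstance, Category.assoc _ _ _⟩

/-- A finite type morphism of affine schemes factors through an affine space. -/
theorem hasModel_of_isAffine {X S : Scheme.{u}} [IsAffine X] [IsAffine S] (f : X ⟶ S)
    [LocallyOfFiniteType f] : HasModel f := by
  have hft : f.appTop.hom.FiniteType := HasRingHomProperty.appTop @LocallyOfFiniteType f inferInstance
  algebraize [f.appTop.hom]
  obtain ⟨n, φ, hφ⟩ := Algebra.FiniteType.iff_quotient_mvPolynomial''.mp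
    (inferInstance : Algebra.FiniteType Γ(S, ⊤) Γ(X, ⊤))
  let R := CommRingCat.of (MvPolynomial (Fin n) Γ(S, ⊤))
  let c : Γ(S, ⊤) ⟶ R := CommRingCat.ofHom MvPolynomial.C
  let q : R ⟶ Γ(X, ⊤) := CommRingCat.ofHom φ.toRingHom
  have hcq : c ≫ q = f.appTop := by
    ext x
    exact φ.commutes x
  haveI : IsClosedImmersion (Spec.map q) := IsClosedImmersion.spec_of_surjective _ hφ
  haveI : LocallyOfFinitePresentation (Spec.map c) := by
    rw [LocallyOfFinitePresentation.SpecMap_iff]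
    exact RingHom.finitePresentation_algebraMap.mpr
      (inferInstance : Algebra.FinitePresentation Γ(S, ⊤) (MvPolynomial (Fin n) Γ(S, ⊤)))
  refine ⟨Spec R, Spec.map c ≫ S.isoSpec.inv, X.isoSpec.hom ≫ Spec.map q, inferInstance,
    inferInstance, inferInstance, inferInstance, ?_⟩
  rw [Category.assoc, ← Spec.map_comp_assoc, hcq]
  exact (Scheme.isoSpec_hom_naturality_assoc f S.isoSpec.inv).trans (by simp)

theorem hasModel_affineOpen {X S : Scheme.{u}} (f : X ⟶ S) [LocallyOfFiniteType f]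
    [QuasiSeparatedSpace S] (V : X.Opens) (hV : IsAffineOpen V) (A : S.Opens) (hA : IsAffineOpen A)
    (hle : V ≤ f ⁻¹ᵁ A) : HasModel (V.ι ≫ f) := by
  haveI : IsAffine (V : Scheme.{u}) := hV
  haveI : IsAffine (A : Scheme.{u}) := hA
  obtain ⟨P, p, k, hc, hq, hp, hk, hkp⟩ := hasModel_of_isAffine (f.resLE A V hle)
  exact ⟨P, p ≫ A.ι, k, hc, hq, inferInstance, hk, by
    rw [reassoc_of% hkp, Scheme.Hom.resLE_comp_ι]⟩

theorem hasModel_sup {X S : Scheme.{u}} (f : X ⟶ S) [QuasiSeparatedSpace X] (V W : X.Opens)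
    (hVc : IsCompact (V : Set X)) (hWc : IsCompact (W : Set X))
    (hV : HasModel (V.ι ≫ f)) (hW : HasModel (W.ι ≫ f)) : HasModel ((V ⊔ W).ι ≫ f) := by
  let T := V ⊔ W
  have key : ∀ A : X.Opens, A ≤ T → HasModel (A.ι ≫ f) →
      HasModel ((T.ι ⁻¹ᵁ A).ι ≫ T.ι ≫ f) := by
    intro A hA hm
    let e : ((T.ι ⁻¹ᵁ A : (T : Scheme.{u}).Opens) : Scheme.{u}) ≅ (A : Scheme.{u}) :=
      IsOpenImmersion.isoOfRangeEq ((T.ι ⁻¹ᵁ A).ι ≫ T.ι) A.ι (by
        rw [Scheme.Hom.comp_base, TopCat.coe_comp, Set.range_comp, Scheme.Opens.range_ι,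
          Scheme.Opens.range_ι]
        show T.ι '' (T.ι ⁻¹' (A : Set X)) = (A : Set X)
        rw [Set.image_preimage_eq_inter_range, Scheme.Opens.range_ι]
        exact Set.inter_eq_left.2 hA)
    have he : e.hom ≫ A.ι = (T.ι ⁻¹ᵁ A).ι ≫ T.ι := IsOpenImmersion.isoOfRangeEq_hom_fac _ _ _
    have := hm.of_iso e
    rwa [reassoc_of% he] at this
  refine hasModel_of_cover (T.ι ≫ f) (T.ι ⁻¹ᵁ V) (T.ι ⁻¹ᵁ W) (fun x => Opens.mem_sup.mp x.2) ?_
    (key V le_sup_left hV) (key W le_sup_right hW)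
  rw [T.ι.isOpenEmbedding.isInducing.isCompact_iff]
  have hc : IsCompact ((V : Set X) ∩ W) :=
    (QuasiSeparatedSpace.inter_isCompact _ _ V.2 hVc W.2 hWc)
  convert hc using 1
  show T.ι '' (T.ι ⁻¹' ((V : Set X) ∩ W)) = _
  rw [Set.image_preimage_eq_inter_range, Scheme.Opens.range_ι]
  exact Set.inter_eq_left.2 fun x hx => Opens.mem_sup.mpr (.inl hx.1)

theorem exists_hasModel {X S : Scheme.{u}} (f : X ⟶ S) [LocallyOfFiniteType f]
    [CompactSpace X] [QuasiSeparatedSpace X] [QuasiSeparatedSpace S] : HasModel f := by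
  classical
  have hcov : ∀ x : X, ∃ V : X.affineOpens, x ∈ V.1 ∧
      ∃ A : S.Opens, IsAffineOpen A ∧ V.1 ≤ f ⁻¹ᵁ A := fun x => by
    obtain ⟨A, hA, hxA, -⟩ := exists_isAffineOpen_mem_and_subset (x := f x) (U := ⊤) trivial
    obtain ⟨V, hV, hxV, hle⟩ := exists_isAffineOpen_mem_and_subset (x := x) (U := f ⁻¹ᵁ A) hxA
    exact ⟨⟨V, hV⟩, hxV, A, hA, hle⟩
  choose V hxV A hA hle using hcov
  obtain ⟨s, hs⟩ := isCompact_univ.elim_finite_subcover (fun x => ((V x).1 : Set X))
    (fun x => (V x).1.2) (fun x _ => Set.mem_iUnion.2 ⟨x, hxV x⟩)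
  have key : ∀ t : Finset X, IsCompact ((t.sup fun x => (V x).1 : X.Opens) : Set X) ∧
      HasModel ((t.sup fun x => (V x).1).ι ≫ f) := by
    intro t
    induction t using Finset.induction_on with
    | empty =>
      rw [Finset.sup_empty]
      refine ⟨isCompact_empty, ?_⟩
      haveI : IsEmpty ((⊥ : X.Opens) : Scheme.{u}) := ⟨fun x => x.2⟩
      haveI : IsAffine ((⊥ : X.Opens) : Scheme.{u}) := isAffine_of_isEmpty
      exact ⟨_, (⊥ : X.Opens).ι ≫ f, 𝟙 _, inferInstance, inferInstance, inferInstance, inferInstance,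
        Category.id_comp _⟩
    | insert x t _ ih =>
      rw [Finset.sup_insert]
      exact ⟨by rw [Opens.coe_sup]; exact (V x).2.isCompact.union ih.1,
        hasModel_sup f _ _ (V x).2.isCompact ih.1
          (hasModel_affineOpen f _ (V x).2 _ (hA x) (hle x)) ih.2⟩
  have htop : (s.sup fun x => (V x).1) = (⊤ : X.Opens) := by
    refine top_le_iff.mp fun y _ => ?_
    obtain ⟨x, hx, hyx⟩ := Set.mem_iUnion₂.1 (hs (Set.mem_univ y))
    exact Finset.le_sup (f := fun x => (V x).1) hx hyx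
  have h := (key s).2
  rw [htop] at h
  have := h.of_iso X.topIso.symm
  simpa using this

end Groth.Agent.Graft
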