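import Groth.Agent.MorLib.IdealFG3
import Groth.Agent.MorLib.EventuallySep
import Mathlib.AlgebraicGeometry.Morphisms.ClosedImmersion

/-! The diagram of finitely presented closed subschemes containing a given one, as schemes. -/

set_option autoImplicit false
set_option linter.style.haveILetI false
universe u

namespace Groth.Agent.Graft

open AlgebraicGeometry CategoryTheory Limits TopologicalSpace Opposite
open Groth.Agent.MorLib.IdealFG
open Scheme (IdealSheafData)

variable {Y S : Scheme.{u}} (g : Y ⟶ S) (I : Y.IdealSheafData)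

noncomputable abbrev subD : (Sub I)ᵒᵖ ⥤ Scheme.{u} := subDiagram g I ⋙ Over.forget S

noncomputable abbrev subC : Cone (subD g I) := (Over.forget S).mapCone (subCone g I)

noncomputable def isLimitSubC [CompactSpace Y] [QuasiSeparatedSpace Y] : IsLimit (subC g I) :=
  isLimitOfPreserves (Over.forget S) (isLimitSubCone g I)

instance subD_isClosedImmersion {a b : (Sub I)ᵒᵖ} (f : a ⟶ b) :
    IsClosedImmersion ((subD g I).map f) := isClosedImmersion_map g I f

instance subD_isAffineHom {a b : (Sub I)ᵒᵖ} (f : a ⟶ b) : IsAffineHom ((subD g I).map f) :=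
  haveI := subD_isClosedImmersion g I f
  inferInstance

instance subD_compactSpace [CompactSpace Y] (K : (Sub I)ᵒᵖ) : CompactSpace ((subD g I).obj K) :=
  haveI : CompactSpace K.unop.1.subscheme :=
    QuasiCompact.compactSpace_of_compactSpace K.unop.1.subschemeι
  this

instance subD_quasiSeparatedSpace [QuasiSeparatedSpace Y] (K : (Sub I)ᵒᵖ) :
    QuasiSeparatedSpace ((subD g I).obj K) :=
  haveI : QuasiSeparatedSpace K.unop.1.subscheme :=
    quasiSeparatedSpace_of_quasiSeparated K.unop.1.subschemeι
  this

theorem exists_isSeparated [CompactSpace Y] [QuasiSeparatedSpace Y] [QuasiSeparatedSpace S]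
    [IsSeparated (I.subschemeι ≫ g)] : ∃ K : Sub I, IsSeparated (K.1.subschemeι ≫ g) := by
  haveI : IsSeparated ((I.subschemeι ≫ g : (subC g I).pt ⟶ S)) := ‹_›
  obtain ⟨K, hK⟩ := MorLib.EvSep.eventually_isSeparated (D := subD g I) (c := subC g I)
    (fun K => K.unop.1.subschemeι ≫ g)
    (fun {a b} f => IdealSheafData.inclusion_subschemeι_assoc
      (show b.unop.1 ≤ a.unop.1 from f.unop.le) g)
    (I.subschemeι ≫ g : (subC g I).pt ⟶ S)
    (fun K => IdealSheafData.inclusion_subschemeι_assoc K.unop.2.1 g)
    (isLimitSubC g I)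
  exact ⟨K.unop, hK K (𝟙 K)⟩

end Groth.Agent.Graft
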