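import Groth.Agent.ConsPropLib.CoreProper
import Groth.Agent.ConsPropLib.Approx
import Groth.Agent.MorLib.BaseChangeLim
import Groth.Agent.HensCouple7.ProperPair
import Groth.Agent.Hensel.NoethPair
import Groth.Agent.Hensel.Henselization
import Groth.Agent.S2079

/-! Clopen subsets of a proper scheme over an arbitrary henselian pair lift from the closed part. -/

set_option autoImplicit false
set_option linter.style.haveILetI false
set_option backward.isDefEq.respectTransparency false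
set_option backward.isDefEq.respectTransparency.types false
universe u

namespace Groth.Agent.Graft

open AlgebraicGeometry CategoryTheory Limits TopologicalSpace Topology
open Groth.Agent.MorLib Groth.Agent.HensCouple7

/-- A covering by two quasi-compact opens disjoint away from a third descends to a stage. -/
theorem exists_stage_split {I : Type u} [SmallCategory I] [IsCofiltered I] {D : I ⥤ Scheme.{u}}
    {c : Cone D} (hc : IsLimit c) [∀ {i j : I} (f : i ⟶ j), IsAffineHom (D.map f)] (i₀ : I)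
    [∀ i, CompactSpace (D.obj i)] [∀ i, QuasiSeparatedSpace (D.obj i)]
    (E : (D.obj i₀).Opens) (W₁ W₂ : c.pt.Opens)
    (hW₁ : IsCompact (W₁ : Set c.pt)) (hW₂ : IsCompact (W₂ : Set c.pt))
    (hint : W₁ ⊓ W₂ ≤ c.π.app i₀ ⁻¹ᵁ E) (hcov : W₁ ⊔ W₂ ⊔ c.π.app i₀ ⁻¹ᵁ E = ⊤) :
    ∃ (n : I) (φ : n ⟶ i₀) (V₁ V₂ : (D.obj n).Opens),
      IsCompact (V₁ : Set (D.obj n)) ∧ IsCompact (V₂ : Set (D.obj n)) ∧
      c.π.app n ⁻¹ᵁ V₁ = W₁ ∧ c.π.app n ⁻¹ᵁ V₂ = W₂ ∧
      V₁ ⊓ V₂ ≤ D.map φ ⁻¹ᵁ E ∧ V₁ ⊔ V₂ ⊔ D.map φ ⁻¹ᵁ E = ⊤ := by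
  obtain ⟨i₁, U₁, hU₁c, hU₁⟩ := exists_preimage_eq D c hc W₁ hW₁
  obtain ⟨i₂, U₂, hU₂c, hU₂⟩ := exists_preimage_eq D c hc W₂ hW₂
  obtain ⟨l, p, q, -⟩ := IsCofilteredOrEmpty.cone_objs i₁ i₂
  obtain ⟨l', r, φ₀, -⟩ := IsCofilteredOrEmpty.cone_objs l i₀
  let A₁ : (D.obj l').Opens := D.map (r ≫ p) ⁻¹ᵁ U₁
  let A₂ : (D.obj l').Opens := D.map (r ≫ q) ⁻¹ᵁ U₂
  have hA₁c : IsCompact (A₁ : Set (D.obj l')) := (D.map (r ≫ p)).isCompact_preimage hU₁c
  have hA₂c : IsCompact (A₂ : Set (D.obj l')) := (D.map (r ≫ q)).isCompact_preimage hU₂c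
  have hA₁ : c.π.app l' ⁻¹ᵁ A₁ = W₁ := by
    show c.π.app l' ⁻¹ᵁ (D.map (r ≫ p) ⁻¹ᵁ U₁) = W₁
    rw [← Scheme.Hom.comp_preimage, c.w, hU₁]
  have hA₂ : c.π.app l' ⁻¹ᵁ A₂ = W₂ := by
    show c.π.app l' ⁻¹ᵁ (D.map (r ≫ q) ⁻¹ᵁ U₂) = W₂
    rw [← Scheme.Hom.comp_preimage, c.w, hU₂]
  have hE : c.π.app l' ⁻¹ᵁ (D.map φ₀ ⁻¹ᵁ E) = c.π.app i₀ ⁻¹ᵁ E := by
    rw [← Scheme.Hom.comp_preimage, c.w]
  obtain ⟨m, ψ, hm⟩ := exists_map_preimage_le_map_preimage D c hc (i := l')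
    (U := A₁ ⊓ A₂) (V := D.map φ₀ ⁻¹ᵁ E)
    (QuasiSeparatedSpace.inter_isCompact _ _ A₁.2 hA₁c A₂.2 hA₂c)
    (by rw [Scheme.Hom.preimage_inf, hA₁, hA₂, hE]; exact hint)
  obtain ⟨n, χ, hn⟩ := exists_map_preimage_le_map_preimage D c hc (i := m) (U := ⊤)
    (V := D.map ψ ⁻¹ᵁ A₁ ⊔ D.map ψ ⁻¹ᵁ A₂ ⊔ D.map ψ ⁻¹ᵁ D.map φ₀ ⁻¹ᵁ E) isCompact_univ
    (by
      have hpre : ∀ {a b : I} (g : a ⟶ b) (U : (D.obj b).Opens),
          c.π.app a ⁻¹ᵁ (D.map g ⁻¹ᵁ U) = c.π.app b ⁻¹ᵁ U := fun g U => by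
        rw [← Scheme.Hom.comp_preimage, c.w]
      refine le_of_le_of_eq le_top ?_
      rw [Scheme.Hom.preimage_sup, Scheme.Hom.preimage_sup, hpre ψ A₁, hpre ψ A₂,
        hpre ψ (D.map φ₀ ⁻¹ᵁ E), hA₁, hA₂, hE, hcov])
  refine ⟨n, χ ≫ ψ ≫ φ₀, D.map (χ ≫ ψ) ⁻¹ᵁ A₁, D.map (χ ≫ ψ) ⁻¹ᵁ A₂,
    (D.map (χ ≫ ψ)).isCompact_preimage hA₁c, (D.map (χ ≫ ψ)).isCompact_preimage hA₂c, ?_, ?_, ?_, ?_⟩
  · rw [← Scheme.Hom.comp_preimage, c.w, hA₁]
  · rw [← Scheme.Hom.comp_preimage, c.w, hA₂]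
  · intro x hx
    simp only [D.map_comp] at hx ⊢
    exact hm (show D.map χ x ∈ D.map ψ ⁻¹ᵁ (A₁ ⊓ A₂) from hx)
  · refine top_le_iff.mp fun x _ => ?_
    have hx := hn (show x ∈ D.map χ ⁻¹ᵁ (⊤ : (D.obj m).Opens) from trivial)
    simpa only [Scheme.Hom.preimage_sup, D.map_comp, Scheme.Hom.comp_preimage] using hx

/-- The union of the basic opens of a finite set of functions. -/
def finOpen {R : Type u} [CommRing R] (s : Finset R) : (Spec (CommRingCat.of R)).Opens :=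
  ⟨(PrimeSpectrum.zeroLocus (s : Set R))ᶜ, (PrimeSpectrum.isClosed_zeroLocus _).isOpen_compl⟩

theorem isCompact_finOpen {R : Type u} [CommRing R] (s : Finset R) :
    IsCompact ((finOpen s : (Spec (CommRingCat.of R)).Opens) : Set (Spec (CommRingCat.of R))) :=
  (PrimeSpectrum.isCompact_isOpen_iff.mpr ⟨s, rfl⟩).1

theorem preimage_finOpen {R R' : Type u} [CommRing R] [CommRing R'] (φ : R →+* R') (s : Finset R)
    (t : Finset R') (h : φ '' (s : Set R) = (t : Set R')) :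
    Spec.map (CommRingCat.ofHom φ) ⁻¹ᵁ finOpen s = finOpen t := by
  refine Opens.ext ?_
  show PrimeSpectrum.comap φ ⁻¹' (PrimeSpectrum.zeroLocus (s : Set R))ᶜ = (PrimeSpectrum.zeroLocus (t : Set R'))ᶜ
  rw [Set.preimage_compl, PrimeSpectrum.preimage_comap_zeroLocus, h]

theorem zeroLocus_subset_compl_finOpen {R : Type u} [CommRing R] {J : Ideal R} {s : Finset R}
    (h : ∀ a ∈ s, a ∈ J) (x : Spec (CommRingCat.of R))
    (hx : x ∈ PrimeSpectrum.zeroLocus (J : Set R)) : x ∉ finOpen s :=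
  fun hxs => hxs fun a ha => hx (h a ha)

/-- Existence of lifts for proper schemes of finite presentation over a henselian pair. -/
theorem exists_clopen_of_fp {A : Type u} [CommRing A] (I : Ideal A) [HenselianRing A I]
    {P : Scheme.{u}} (f : P ⟶ Spec (CommRingCat.of A)) [IsProper f] [LocallyOfFinitePresentation f]
    (s : Finset A) (hs : ∀ a ∈ s, a ∈ I) (W₁ W₂ : P.Opens) (hW₁ : IsCompact (W₁ : Set P))
    (hW₂ : IsCompact (W₂ : Set P)) (hint : W₁ ⊓ W₂ ≤ f ⁻¹ᵁ finOpen s)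
    (hcov : W₁ ⊔ W₂ ⊔ f ⁻¹ᵁ finOpen s = ⊤) :
    ∃ U : Set P, IsClopen U ∧
      ∀ p, f p ∈ PrimeSpectrum.zeroLocus (I : Set A) → (p ∈ U ↔ p ∈ W₁) := by
  classical
  let AC := CommRingCat.of A
  let D := ConsPropLib.NoethApprox.diagram AC
  let c := ConsPropLib.NoethApprox.cone AC
  have hc : IsLimit c := ConsPropLib.NoethApprox.isLimit AC
  haveI : ∀ i, IsAffine (D.obj i) := fun i => ConsPropLib.NoethApprox.isAffine_obj AC i
  haveI : ∀ {i j} (φ : i ⟶ j), IsAffineHom (D.map φ) := fun φ => isAffineHom_of_isAffine _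
  haveI : ∀ (i j : (Finset AC)ᵒᵖ) (φ : i ⟶ j), IsAffineHom (D.map φ) := fun i j φ => isAffineHom_of_isAffine _
  let f' : P ⟶ c.pt := f
  haveI : IsProper f' := ‹IsProper f›
  haveI : LocallyOfFinitePresentation f' := ‹LocallyOfFinitePresentation f›
  obtain ⟨i, X₁, u₁, g₁, hX⟩ := ConsPropLib.hasModel hc f'
  haveI := hX.lfp; haveI := hX.qc; haveI := hX.qs
  haveI := hX.compactSpace; haveI := hX.quasiSeparatedSpace
  obtain ⟨j, φ, hj⟩ := ConsPropLib.core_isProper _ D c hc (fun a b f => inferInstance) i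
    inferInstance u₁ inferInstance inferInstance ‹_›
    (Desc.of_two @IsProper hX.sq (IsPullback.of_hasPullback _ _) inferInstance)
  -- a stage containing the functions
  let l : (Finset AC)ᵒᵖ := Opposite.op (j.unop ∪ s)
  let χ : l ⟶ j := (homOfLE (show j.unop ≤ j.unop ∪ s from Finset.subset_union_left)).op
  haveI : IsProper (pullback.snd u₁ (D.map (χ ≫ φ))) :=
    Desc.of_factor @IsProper hj (a := D.map χ) (D.map_comp χ φ).symm (IsPullback.of_hasPullback _ _)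
  let xi := pullback.snd u₁ (D.map (χ ≫ φ))
  have sq : IsPullback (hX.push (χ ≫ φ)) f' xi (c.π.app l) := (hX.pushed (χ ≫ φ)).sq
  haveI : CompactSpace ↥(pullback u₁ (D.map (χ ≫ φ))) :=
    QuasiCompact.compactSpace_of_compactSpace xi
  haveI : QuasiSeparatedSpace ↥(pullback u₁ (D.map (χ ≫ φ))) :=
    quasiSeparatedSpace_of_quasiSeparated xi
  let A₀ := Algebra.adjoin ℤ ((l.unop : Finset AC) : Set AC)
  have hsA₀ : ∀ a ∈ s, a ∈ A₀ := fun a ha =>
    Algebra.subset_adjoin (Finset.mem_coe.2 (Finset.mem_union_right _ ha))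
  let s₀ : Finset A₀ := s.attach.image fun a => ⟨a.1, hsA₀ a.1 a.2⟩
  have hs₀ : A₀.val.toRingHom '' (s₀ : Set A₀) = (s : Set A) := by
    ext a
    simp [s₀]
    exact hsA₀ a
  let o : Over l := Over.mk (𝟙 l)
  let E : ((BC.diag D xi).obj o).Opens :=
    pullback.snd xi (D.map o.hom) ⁻¹ᵁ (finOpen s₀ : (Spec (CommRingCat.of A₀)).Opens)
  have hE : (BC.cone D xi sq).π.app o ⁻¹ᵁ E = f ⁻¹ᵁ finOpen s := by
    show BC.proj D xi sq o ⁻¹ᵁ (pullback.snd xi (D.map o.hom) ⁻¹ᵁ _) = _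
    rw [← Scheme.Hom.comp_preimage, BC.proj_snd, Scheme.Hom.comp_preimage]
    exact congrArg (f ⁻¹ᵁ ·) (preimage_finOpen A₀.val.toRingHom s₀ s hs₀)
  haveI : ∀ n : Over l, CompactSpace ((BC.diag D xi).obj n) := fun n => BC.compactSpace_obj D xi n
  haveI : ∀ n : Over l, QuasiSeparatedSpace ((BC.diag D xi).obj n) := fun n =>
    BC.quasiSeparatedSpace_obj D xi n
  obtain ⟨n, ψ, V₁, V₂, -, -, hV₁, -, hVint, hVcov⟩ := exists_stage_split
    (BC.isLimitCone D xi sq hc) o E W₁ W₂ hW₁ hW₂ (hE.symm ▸ hint) (hE.symm ▸ hcov)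
  -- the noetherian ring of that stage and its henselization
  let R := Algebra.adjoin ℤ ((n.left.unop : Finset AC) : Set AC)
  let ι : A₀ →+* R := (Subalgebra.inclusion (Algebra.adjoin_mono
    (Finset.coe_subset.2 (leOfHom n.hom.unop)))).toRingHom
  let ρ : R →+* A := R.val.toRingHom
  let sR : Finset R := s₀.image ι
  let J : Ideal R := Ideal.span (sR : Set R)
  haveI : Algebra.FiniteType ℤ R := Algebra.FiniteType.adjoin_of_finite (Finset.finite_toSet _)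
  haveI : IsNoetherianRing R := Algebra.FiniteType.isNoetherianRing ℤ _
  have hJI : J.map ρ ≤ I := by
    rw [Ideal.map_span, Ideal.span_le]
    rintro _ ⟨x, hx, rfl⟩
    obtain ⟨b, hb, rfl⟩ := Finset.mem_image.1 (show x ∈ s₀.image ι from hx)
    exact hs _ (hs₀.le ⟨b, hb, rfl⟩)
  obtain ⟨B, _, _, hB⟩ := Hensel.exists_isPairHenselization R J
  haveI : HenselianRing B (J.map (algebraMap R B)) := hB.1
  haveI : IsNoetherianRing B := Hensel.isNoetherianRing_of_isPairHenselization J hB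
  obtain ⟨g, hg, -⟩ := hB.2 A I ρ inferInstance hJI
  let Xn := (BC.diag D xi).obj n
  let hn : Xn ⟶ Spec (CommRingCat.of R) := pullback.snd xi (D.map n.hom)
  haveI : IsProper hn := MorphismProperty.pullback_snd (P := @IsProper) _ _ inferInstance
  let mB : Spec (CommRingCat.of B) ⟶ Spec (CommRingCat.of R) :=
    Spec.map (CommRingCat.ofHom (algebraMap R B))
  let hY : pullback hn mB ⟶ Spec (CommRingCat.of B) := pullback.snd hn mB
  haveI : IsProper hY := MorphismProperty.pullback_snd (P := @IsProper) _ _ inferInstance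
  have hEn : ∀ x : Xn, x ∈ (BC.diag D xi).map ψ ⁻¹ᵁ E ↔ hn x ∈ finOpen sR := by
    intro x
    have e : ψ.left = n.hom := (Category.comp_id _).symm.trans (Over.w ψ)
    have h1 : (BC.diag D xi).map ψ ≫ pullback.snd xi (D.map o.hom) =
        hn ≫ Spec.map (CommRingCat.ofHom ι) :=
      (BC.map_snd D xi ψ).trans (congrArg (fun k => hn ≫ D.map k) e)
    have h2 : pullback.snd xi (D.map o.hom) ((BC.diag D xi).map ψ x) =
        Spec.map (CommRingCat.ofHom ι) (hn x) :=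
      (Scheme.Hom.comp_apply _ _ x).symm.trans
        ((congrArg (fun k : Xn ⟶ Spec (CommRingCat.of A₀) => k x) h1).trans (Scheme.Hom.comp_apply _ _ x))
    exact (iff_of_eq (congrArg (fun z : Spec (CommRingCat.of A₀) => z ∈ finOpen s₀) h2)).trans
      (SetLike.ext_iff.1 (preimage_finOpen ι s₀ sR (Finset.coe_image).symm) (hn x))
  let Z : Set ↥(pullback hn mB) := hY ⁻¹' PrimeSpectrum.zeroLocus ((J.map (algebraMap R B) : Ideal B) : Set B)
  have hout : ∀ y ∈ Z, pullback.fst hn mB y ∉ (BC.diag D xi).map ψ ⁻¹ᵁ E := by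
    intro y hy hyE
    rw [hEn] at hyE
    refine zeroLocus_subset_compl_finOpen (J := J) (fun b hb => Ideal.subset_span hb) _ ?_ hyE
    rw [← Scheme.Hom.comp_apply, pullback.condition, Scheme.Hom.comp_apply]
    intro b hb
    exact hy (Ideal.mem_map_of_mem _ hb)
  let V : Set Z := Subtype.val ⁻¹' (pullback.fst hn mB ⁻¹ᵁ V₁ : Set ↥(pullback hn mB))
  have hV : IsClopen V := by
    refine ⟨⟨?_⟩, (pullback.fst hn mB ⁻¹ᵁ V₁).2.preimage continuous_subtype_val⟩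
    have : Vᶜ = Subtype.val ⁻¹' (pullback.fst hn mB ⁻¹ᵁ V₂ : Set ↥(pullback hn mB)) := by
      ext ⟨y, hy⟩
      refine ⟨fun h => ?_, fun h h' => hout y hy (hVint ⟨h', h⟩)⟩
      have hx : pullback.fst hn mB y ∈ V₁ ⊔ V₂ ⊔ (BC.diag D xi).map ψ ⁻¹ᵁ E :=
        hVcov.symm ▸ Opens.mem_top _
      rcases Opens.mem_sup.1 hx with hx | hx
      · exact (Opens.mem_sup.1 hx).elim (fun h' => absurd h' h) id
      · exact absurd hx (hout y hy)
    rw [this]
    exact (pullback.fst hn mB ⁻¹ᵁ V₂).2.preimage continuous_subtype_val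
  obtain ⟨UY, ⟨hUY, hUV⟩, -⟩ := lifts_proper (J.map (algebraMap R B)) hY V hV
  let m : P ⟶ pullback hn mB := pullback.lift ((BC.cone D xi sq).π.app n)
    (f ≫ Spec.map (CommRingCat.ofHom g)) (by
      show BC.proj D xi sq n ≫ pullback.snd xi (D.map n.hom) = _
      rw [BC.proj_snd, Category.assoc, ← Spec.map_comp, ← CommRingCat.ofHom_comp, hg]
      rfl)
  refine ⟨m ⁻¹' UY, hUY.preimage m.continuous, fun p hp => ?_⟩
  have hmZ : m p ∈ Z := by
    have h1 : hY (m p) = Spec.map (CommRingCat.ofHom g) (f p) := by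
      rw [← Scheme.Hom.comp_apply, pullback.lift_snd, Scheme.Hom.comp_apply]
    refine Set.mem_preimage.2 ?_
    rw [h1]
    intro b hb
    exact hp ((Ideal.map_le_iff_le_comap.1 (show (J.map (algebraMap R B)).map g ≤ I by rw [Ideal.map_map, hg]; exact hJI)) hb)
  refine (Set.ext_iff.1 hUV ⟨m p, hmZ⟩).trans ?_
  show pullback.fst hn mB (m p) ∈ V₁ ↔ p ∈ W₁
  rw [← Scheme.Hom.comp_apply, pullback.lift_fst, ← hV₁]
  rfl

/-- Clopen subsets of a proper scheme over a henselian pair lift uniquely from the closed part. -/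
theorem lifts_proper_pair {A : Type u} [CommRing A] (I : Ideal A) [HenselianRing A I]
    {X : Scheme.{u}} (f : X ⟶ Spec (CommRingCat.of A)) [IsProper f] :
    Lifts (f ⁻¹' PrimeSpectrum.zeroLocus (I : Set A)) := by
  classical
  refine lifts_of_exists (fun D hD hDZ => ?_) fun V hV => ?_
  · by_contra hne
    obtain ⟨y, hy⟩ := Set.nonempty_iff_ne_empty.mpr hne
    obtain ⟨m, hm, hle⟩ := Ideal.exists_le_maximal (f y).asIdeal (f y).isPrime.ne_top
    let p : PrimeSpectrum A := ⟨m, hm.isPrime⟩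
    obtain ⟨z, hz, hzp⟩ : p ∈ f '' D := by
      refine (f.isClosedMap D hD.isClosed).stableUnderSpecialization ?_ ⟨y, hy, rfl⟩
      exact (PrimeSpectrum.le_iff_specializes _ _).mp hle
    refine Set.eq_empty_iff_forall_notMem.mp hDZ z ⟨hz, ?_⟩
    rw [Set.mem_preimage, hzp]
    exact (HenselianRing.jac (I := I)).trans (sInf_le ⟨bot_le, hm⟩)
  let Z : Set X := f ⁻¹' PrimeSpectrum.zeroLocus (I : Set A)
  have hZ : IsClosed Z := (PrimeSpectrum.isClosed_zeroLocus _).preimage f.continuous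
  haveI : CompactSpace X := QuasiCompact.compactSpace_of_compactSpace f
  haveI : QuasiSeparatedSpace X := quasiSeparatedSpace_of_quasiSeparated f
  -- quasi-compact opens cutting out the two pieces
  have hopen : ∀ T : Set Z, IsClopen T → ∃ W : X.Opens, IsCompact (W : Set X) ∧
      Subtype.val ⁻¹' (W : Set X) = T := by
    intro T hT
    obtain ⟨Ω, hΩ, hΩT⟩ := isOpen_induced_iff.1 hT.isOpen
    have hTc : IsCompact (Subtype.val '' T) :=
      (hZ.isClosedMap_subtype_val _ hT.isClosed).isCompact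
    have hA : ∀ x : Subtype.val '' T, ∃ O : X.affineOpens, (x : X) ∈ O.1 ∧ (O.1 : Set X) ⊆ Ω :=
      fun x => by
        obtain ⟨z, hz, hzx⟩ := x.2
        obtain ⟨O, hO, hxO, hle⟩ := exists_isAffineOpen_mem_and_subset (U := (⟨Ω, hΩ⟩ : X.Opens))
          (x := (x : X)) (show (x : X) ∈ Ω from hzx ▸ hΩT.ge hz)
        exact ⟨⟨O, hO⟩, hxO, hle⟩
    choose O hxO hOΩ using hA
    obtain ⟨t, ht⟩ := hTc.elim_finite_subcover (fun x => ((O x).1 : Set X)) (fun x => (O x).1.2)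
      (fun x hx => Set.mem_iUnion.2 ⟨⟨x, hx⟩, hxO ⟨x, hx⟩⟩)
    refine ⟨⟨⋃ x ∈ t, ((O x).1 : Set X), isOpen_biUnion fun x _ => (O x).1.2⟩,
      t.isCompact_biUnion fun x _ => (O x).2.isCompact, Set.Subset.antisymm (fun z hz => ?_)
      fun z hz => ht ⟨z, hz, rfl⟩⟩
    obtain ⟨x, -, hx⟩ := Set.mem_iUnion₂.1 hz
    exact hΩT.le (hOΩ x hx)
  obtain ⟨W₁, hW₁c, hW₁⟩ := hopen V hV
  obtain ⟨W₂, hW₂c, hW₂⟩ := hopen Vᶜ hV.compl
  -- finitely many functions suffice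
  have hfin : ∀ K : Set X, IsCompact K → K ∩ Z = ∅ → ∃ s : Finset A, (∀ a ∈ s, a ∈ I) ∧
      K ⊆ f ⁻¹' (finOpen s : Set (Spec (CommRingCat.of A))) := by
    intro K hK hKZ
    obtain ⟨t, ht⟩ := hK.elim_finite_subcover
      (fun a : I => f ⁻¹' (PrimeSpectrum.basicOpen (a : A) : Set (PrimeSpectrum A)))
      (fun a => (PrimeSpectrum.basicOpen (a : A)).2.preimage f.continuous) fun x hx => by
        by_contra hn
        refine Set.eq_empty_iff_forall_notMem.1 hKZ x ⟨hx, fun a ha => ?_⟩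
        by_contra ha'
        exact hn (Set.mem_iUnion.2 ⟨⟨a, ha⟩, ha'⟩)
    refine ⟨t.image Subtype.val, fun a ha => ?_, fun x hx => ?_⟩
    · obtain ⟨a, -, rfl⟩ := Finset.mem_image.1 ha
      exact a.2
    · obtain ⟨a, hat, hax⟩ := Set.mem_iUnion₂.1 (ht hx)
      exact fun h => hax (h (Finset.mem_coe.2 (Finset.mem_image_of_mem _ hat)))
  obtain ⟨s₁, hs₁, hK₁⟩ := hfin ((W₁ ⊓ W₂ : X.Opens) : Set X)
    (QuasiSeparatedSpace.inter_isCompact _ _ W₁.2 hW₁c W₂.2 hW₂c)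
    (Set.eq_empty_of_forall_notMem fun x hx =>
      ((Set.ext_iff.1 hW₂ ⟨x, hx.2⟩).1 hx.1.2) ((Set.ext_iff.1 hW₁ ⟨x, hx.2⟩).1 hx.1.1))
  obtain ⟨s₂, hs₂, hK₂⟩ := hfin ((W₁ ⊔ W₂ : X.Opens) : Set X)ᶜ
    (W₁ ⊔ W₂).2.isClosed_compl.isCompact
    (Set.eq_empty_of_forall_notMem fun x hx => by
      by_cases h : (⟨x, hx.2⟩ : Z) ∈ V
      · exact hx.1 (Opens.mem_sup.2 (.inl (hW₁.ge h)))
      · exact hx.1 (Opens.mem_sup.2 (.inr (hW₂.ge h))))
  let s : Finset A := s₁ ∪ s₂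
  have hs : ∀ a ∈ s, a ∈ I := fun a ha => (Finset.mem_union.1 ha).elim (hs₁ a) (hs₂ a)
  have hmono : ∀ t : Finset A, t ⊆ s → (finOpen t : Set (Spec (CommRingCat.of A))) ⊆ finOpen s :=
    fun t ht x hx h => hx fun a ha => h (ht ha)
  obtain ⟨J, _, _, D, c, hc, e, hcl, hD⟩ := Groth.Agent.S2079.result f
  let D' := D ⋙ Over.forget _
  let c' := (Over.forget _).mapCone c
  have hc' : IsLimit c' := isLimitOfPreserves (Over.forget _) hc
  haveI : ∀ {i j : J} (a : i ⟶ j), IsAffineHom (D'.map a) := fun {i j} a => by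
    haveI : IsClosedImmersion (D'.map a) := hcl i j a
    infer_instance
  haveI : ∀ i, IsProper (D.obj i).hom := fun i => (hD i).2.1
  haveI : ∀ i, CompactSpace (D'.obj i) := fun i =>
    QuasiCompact.compactSpace_of_compactSpace (show D'.obj i ⟶ _ from (D.obj i).hom)
  haveI : ∀ i, QuasiSeparatedSpace (D'.obj i) := fun i =>
    quasiSeparatedSpace_of_quasiSeparated (show D'.obj i ⟶ _ from (D.obj i).hom)
  obtain ⟨i₀⟩ := IsCofiltered.nonempty (C := J)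
  let ε : c'.pt ⟶ X := e.hom.left
  have hεf : ∀ i, c'.π.app i ≫ (D.obj i).hom = ε ≫ f := fun i =>
    (Over.w (c.π.app i)).trans (Over.w e.hom).symm
  have hεc : ∀ W : X.Opens, IsCompact (W : Set X) → IsCompact ((ε ⁻¹ᵁ W : c'.pt.Opens) : Set c'.pt) :=
    fun W hW => by
      haveI : IsIso ε := inferInstanceAs (IsIso e.hom.left)
      exact ε.isCompact_preimage hW
  obtain ⟨n, φ, V₁, V₂, hV₁c, hV₂c, hV₁, -, hVint, hVcov⟩ := exists_stage_split hc' i₀
    ((D.obj i₀).hom ⁻¹ᵁ finOpen s) (ε ⁻¹ᵁ W₁) (ε ⁻¹ᵁ W₂) (hεc W₁ hW₁c) (hεc W₂ hW₂c)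
    (by
      rw [← Scheme.Hom.comp_preimage, hεf, Scheme.Hom.comp_preimage]
      intro x hx
      exact hmono s₁ Finset.subset_union_left (hK₁ hx))
    (by
      rw [← Scheme.Hom.comp_preimage, hεf, Scheme.Hom.comp_preimage]
      refine top_le_iff.mp fun x _ => ?_
      by_cases h : ε x ∈ W₁ ⊔ W₂
      · exact Opens.mem_sup.2 (.inl (by simpa [Scheme.Hom.preimage_sup] using h))
      · exact Opens.mem_sup.2 (.inr (hmono s₂ Finset.subset_union_right (hK₂ h))))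
  haveI : LocallyOfFinitePresentation (D.obj n).hom := (hD n).2.2
  have hE : D'.map φ ⁻¹ᵁ ((D.obj i₀).hom ⁻¹ᵁ finOpen s) = (D.obj n).hom ⁻¹ᵁ finOpen s := by
    rw [← Scheme.Hom.comp_preimage]
    exact congrArg (· ⁻¹ᵁ finOpen s) (Over.w (D.map φ))
  obtain ⟨U, hU, hUW⟩ := exists_clopen_of_fp I (D.obj n).hom s hs V₁ V₂ hV₁c hV₂c
    (hE ▸ hVint) (hE ▸ hVcov)
  refine ⟨(e.inv.left ≫ c'.π.app n) ⁻¹' U, hU.preimage (Scheme.Hom.continuous _), ?_⟩
  ext ⟨x, hx⟩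
  have hinv : e.inv.left ≫ ε = 𝟙 X := by
    show e.inv.left ≫ e.hom.left = _
    rw [← Over.comp_left, e.inv_hom_id]; rfl
  have hcomp : (e.inv.left ≫ c'.π.app n) ≫ (D.obj n).hom = f :=
    (Category.assoc _ _ _).trans ((congrArg (e.inv.left ≫ ·) (hεf n)).trans
      ((Category.assoc _ _ _).symm.trans ((congrArg (· ≫ f) hinv).trans (Category.id_comp f))))
  have hp : (D.obj n).hom ((e.inv.left ≫ c'.π.app n) x) = f x :=
    (Scheme.Hom.comp_apply _ _ x).symm.trans (congrArg (fun m : X ⟶ _ => m x) hcomp)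
  refine (hUW _ (hp.symm ▸ hx)).trans ?_
  have h1 : (e.inv.left ≫ c'.π.app n) x ∈ V₁ ↔ x ∈ W₁ := by
    rw [Scheme.Hom.comp_apply]
    show e.inv.left x ∈ c'.π.app n ⁻¹ᵁ V₁ ↔ _
    rw [hV₁]
    have h2 : ε (e.inv.left x) = x :=
      (Scheme.Hom.comp_apply e.inv.left ε x).symm.trans (congrArg (fun m : X ⟶ X => m x) hinv)
    show ε (e.inv.left x) ∈ W₁ ↔ _
    rw [h2]
  exact h1.trans (Set.ext_iff.1 hW₁ ⟨x, hx⟩)

end Groth.Agent.Graft
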