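import Groth.Agent.MorLib.IdealFG2
import Mathlib.AlgebraicGeometry.Morphisms.ClosedImmersion

/-! Extending finitely generated ideal sheaves from a quasi-compact open subscheme, below a given one. -/

set_option autoImplicit false
set_option linter.style.haveILetI false
universe u

namespace Groth.Agent.Graft

open AlgebraicGeometry CategoryTheory Limits TopologicalSpace Opposite
open Groth.Agent.MorLib.IdealFG
open Scheme (IdealSheafData)

variable {X Y : Scheme.{u}}

theorem fgOn_of_comap {I : X.IdealSheafData} {W : X.Opens} (h : IsFG (I.comap W.ι)) : FGOn I W := by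
  intro U hU
  let U₀ : (W : Scheme.{u}).Opens := W.ι ⁻¹ᵁ U.1
  have hU₀ : W.ι ''ᵁ U₀ = U.1 := by
    rw [Scheme.Hom.image_preimage_eq_opensRange_inf, Scheme.Opens.opensRange_ι]
    exact inf_eq_right.mpr hU
  have hU₀a : IsAffineOpen U₀ := by
    rw [← Scheme.Hom.isAffineOpen_iff_of_isOpenImmersion W.ι, hU₀]; exact U.2
  have h1 := h ⟨U₀, hU₀a⟩
  rw [IdealSheafData.ideal_comap_of_isOpenImmersion] at h1
  have h2 := h1.map (W.ι.appIso U₀).inv.hom
  have hsurj : Function.Surjective (W.ι.appIso U₀).inv.hom :=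
    (W.ι.appIso U₀).commRingCatIsoToRingEquiv.symm.surjective
  rw [Ideal.map_comap_of_surjective _ hsurj] at h2
  exact fg_congr (U := ⟨W.ι ''ᵁ U₀, hU₀a.image_of_isOpenImmersion _⟩) (U' := U) hU₀ h2

/-- A finitely generated ideal sheaf on a quasi-compact open extends to a finitely generated one
inside any ideal sheaf whose restriction contains it. -/
theorem exists_fg_extend [CompactSpace X] [QuasiSeparatedSpace X] (I : X.IdealSheafData)
    (W : X.Opens) (hW : IsCompact (W : Set X)) (K : (W : Scheme.{u}).IdealSheafData) (hK : IsFG K)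
    (hle : K ≤ I.comap W.ι) :
    ∃ K' : X.IdealSheafData, K' ≤ I ∧ IsFG K' ∧ K'.comap W.ι = K := by
  classical
  haveI : CompactSpace (W : Scheme.{u}) := isCompact_iff_compactSpace.mp hW
  haveI : QuasiCompact W.ι := quasiCompact_of_compactSpace W.ι
  let K₀ : X.IdealSheafData := I ⊓ K.map W.ι
  have hK₀ : K₀.comap W.ι = K := by
    show (I ⊓ K.map W.ι).comap W.ι = K
    rw [comap_inf, comap_map_self]
    exact inf_eq_right.mpr hle
  obtain ⟨s, hs, hcov⟩ := isCompact_iff_finite_and_eq_biUnion_affineOpens.mp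
    (show IsCompact ((⊤ : X.Opens) : Set X) from isCompact_univ)
  have key : ∀ t : Finset X.affineOpens, ∃ K' : X.IdealSheafData, K' ≤ I ∧
      FGOn K' (W ⊔ t.sup (fun U => U.1)) ∧ K'.comap W.ι = K := by
    intro t
    induction t using Finset.induction_on with
    | empty =>
      refine ⟨K₀, inf_le_left, ?_, hK₀⟩
      rw [Finset.sup_empty, sup_bot_eq]
      exact fgOn_of_comap (hK₀.symm ▸ hK)
    | insert U t _ ih =>
      obtain ⟨K', hK', hfg, hKW⟩ := ih
      have hc : IsCompact ((W ⊔ t.sup (fun U => U.1) : X.Opens) : Set X) := by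
        rw [Opens.coe_sup, Opens.coe_finset_sup]
        refine hW.union ?_
        rw [Finset.sup_set_eq_biUnion]
        exact t.isCompact_biUnion fun U _ => U.2.isCompact
      obtain ⟨K'', hK'', hfg'', hKW'', -⟩ := step I K' _ hc U hK' hfg ⊥ Submodule.fg_bot bot_le
      refine ⟨K'', hK'', ?_, ?_⟩
      · rw [Finset.sup_insert, ← sup_assoc, sup_comm W, sup_assoc, sup_comm U.1]
        exact hfg''
      · rw [← hKW]
        exact le_antisymm
          (comap_le_of_forall fun V hV =>
            (eq_of_comap_eq hKW'' (U := V) (hV.trans le_sup_left)).le)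
          (comap_le_of_forall fun V hV =>
            (eq_of_comap_eq hKW'' (U := V) (hV.trans le_sup_left)).ge)
  obtain ⟨K', hK', hfg, hKW⟩ := key hs.toFinset
  refine ⟨K', hK', fun U => hfg U fun x _ => ?_, hKW⟩
  have hx : x ∈ (⊤ : X.Opens) := trivial
  rw [hcov] at hx
  obtain ⟨O, hx⟩ := Opens.mem_iSup.mp hx
  obtain ⟨hO, hxO⟩ := Opens.mem_iSup.mp hx
  have hle : O.1 ≤ hs.toFinset.sup (fun U : X.affineOpens => U.1) :=
    Finset.le_sup (f := fun U : X.affineOpens => U.1) (hs.mem_toFinset.mpr hO)
  exact Opens.mem_sup.mpr (.inr (hle hxO))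

/-- The ideal of a finitely presented closed immersion is finitely generated. -/
theorem isFG_ker (f : X ⟶ Y) [IsClosedImmersion f] [LocallyOfFinitePresentation f] :
    IsFG f.ker := by
  intro U
  rw [Scheme.Hom.ker_apply]
  have hfp : (f.app U.1).hom.FinitePresentation := by
    have h1 := f.finitePresentation_appLE U.2 (U.2.preimage f) le_rfl
    rwa [← Scheme.Hom.app_eq_appLE] at h1
  have hs : Function.Surjective (f.app U.1).hom := f.app_surjective U.1 U.2
  algebraize [(f.app U.1).hom]
  exact Algebra.FinitePresentation.ker_fG_of_surjective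
    (Algebra.ofId Γ(Y, U.1) Γ(X, f ⁻¹ᵁ U.1)) hs

/-- The restriction of a closed subscheme to an open. -/
theorem exists_isPullback_subscheme {W : X.Opens} {K' : X.IdealSheafData}
    {K : (W : Scheme.{u}).IdealSheafData} (e : K'.comap W.ι = K) :
    ∃ z : K.subscheme ⟶ K'.subscheme, IsOpenImmersion z ∧
      IsPullback z K.subschemeι K'.subschemeι W.ι := by
  subst e
  have h : IsPullback ((K'.comapIso W.ι).hom ≫ pullback.snd W.ι K'.subschemeι)
      (K'.comap W.ι).subschemeι K'.subschemeι W.ι := by
    refine (IsPullback.of_hasPullback W.ι K'.subschemeι).flip.of_iso (K'.comapIso W.ι).symm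
      (Iso.refl _) (Iso.refl _) (Iso.refl _) ?_ ?_ ?_ ?_ <;> simp [← IdealSheafData.comapIso_hom_snd]
  exact ⟨_, inferInstance, h⟩

end Groth.Agent.Graft
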