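import Groth.Agent.Graft.Model
import Groth.Agent.Graft.SubLim
import Groth.Agent.Graft.EvProper
import Mathlib.AlgebraicGeometry.Morphisms.Finite

/-! Hulls of finite presentation: proper, finite. -/

set_option autoImplicit false
set_option linter.style.haveILetI false
set_option backward.isDefEq.respectTransparency false
set_option backward.isDefEq.respectTransparency.types false
universe u

namespace Groth.Agent.Graft

open AlgebraicGeometry CategoryTheory Limits TopologicalSpace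
open Groth.Agent.MorLib.IdealFG
open Scheme (IdealSheafData)

/-- A limit with affine transition maps which is affine over the base is eventually affine over it. -/
theorem exists_isAffineHom {I : Type u} [SmallCategory I] [IsCofiltered I] {D : I ⥤ Scheme.{u}}
    {c : Cone D} (hc : IsLimit c) [∀ {i j : I} (f : i ⟶ j), IsAffineHom (D.map f)]
    {S : Scheme.{u}} [CompactSpace S] {i₀ : I} (t : D.obj i₀ ⟶ S) [QuasiCompact t] [QuasiSeparated t]
    [IsAffineHom (c.π.app i₀ ≫ t)] :
    ∃ j : Over i₀, IsAffineHom (D.map j.hom ≫ t) := by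
  classical
  obtain ⟨s, hs, hcov⟩ := isCompact_iff_finite_and_eq_biUnion_affineOpens.mp
    (show IsCompact ((⊤ : S.Opens) : Set S) from isCompact_univ)
  have hloc : ∀ V : S.affineOpens, ∃ j : Over i₀, ∀ n : Over i₀, Nonempty (n ⟶ j) →
      IsAffineOpen ((D.map n.hom ≫ t) ⁻¹ᵁ V.1) := by
    intro V
    let W : (D.obj i₀).Opens := t ⁻¹ᵁ V.1
    haveI : ∀ j : Over i₀, CompactSpace ((opensDiagram D i₀ W).obj j) := fun j =>
      isCompact_iff_compactSpace.mp ((D.map j.hom).isCompact_preimage (t.isCompact_preimage V.2.isCompact))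
    haveI : ∀ j : Over i₀, QuasiSeparatedSpace ((opensDiagram D i₀ W).obj j) := fun j => by
      haveI : IsAffine (V.1 : Scheme.{u}) := V.2
      haveI : QuasiSeparated ((D.map j.hom ≫ t) ∣_ V.1) :=
        IsZariskiLocalAtTarget.restrict (P := @QuasiSeparated) inferInstance _
      exact quasiSeparatedSpace_of_quasiSeparated ((D.map j.hom ≫ t) ∣_ V.1)
    haveI : IsAffine (opensCone D c i₀ W).pt := by
      show IsAffine ((c.π.app i₀ ⁻¹ᵁ W : c.pt.Opens) : Scheme.{u})
      exact V.2.preimage (c.π.app i₀ ≫ t)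
    obtain ⟨a, ha⟩ := Scheme.exists_isAffine_of_isLimit (opensDiagram D i₀ W) (opensCone D c i₀ W)
      (isLimitOpensCone D c hc i₀ W)
    have haW : IsAffineOpen (D.map a.hom ⁻¹ᵁ W) := ha
    refine ⟨a, fun n ⟨ψ⟩ => ?_⟩
    have e : D.map ψ.left ⁻¹ᵁ (D.map a.hom ⁻¹ᵁ W) = (D.map n.hom ≫ t) ⁻¹ᵁ V.1 := by
      rw [← Scheme.Hom.comp_preimage, ← D.map_comp, Over.w ψ, ← Scheme.Hom.comp_preimage]
    exact e ▸ haW.preimage (D.map ψ.left)
  choose j hj using hloc
  obtain ⟨j₀, hj₀⟩ := IsCofiltered.inf_objs_exists (hs.toFinset.image j)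
  refine ⟨j₀, isAffineHom_of_forall_exists_isAffineOpen _ fun x => ?_⟩
  have hx : x ∈ (⊤ : S.Opens) := trivial
  rw [hcov] at hx
  obtain ⟨O, hx⟩ := Opens.mem_iSup.mp hx
  obtain ⟨hO, hxO⟩ := Opens.mem_iSup.mp hx
  exact ⟨O.1, hxO, O.2, hj O j₀ ⟨(hj₀ (Finset.mem_image_of_mem j (hs.mem_toFinset.mpr hO))).some⟩⟩

variable {X S : Scheme.{u}} (f : X ⟶ S) [CompactSpace S] [QuasiSeparatedSpace S]

/-- A proper morphism is a closed subscheme of one proper and of finite presentation. -/
theorem exists_proper_hull [IsProper f] :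
    ∃ (P : Scheme.{u}) (p : P ⟶ S) (k : X ⟶ P), IsProper p ∧ LocallyOfFinitePresentation p ∧
      IsClosedImmersion k ∧ k ≫ p = f := by
  haveI : CompactSpace X := QuasiCompact.compactSpace_of_compactSpace f
  haveI : QuasiSeparatedSpace X := quasiSeparatedSpace_of_quasiSeparated f
  obtain ⟨P, p, k, hc, hq, hp, hk, hkp⟩ := exists_hasModel f
  haveI : IsProper (k.ker.subschemeι ≫ p) := by
    have e : k.ker.subschemeι ≫ p = inv k.toImage ≫ f := by
      rw [← hkp, IsIso.eq_inv_comp, Scheme.Hom.toImage_imageι_assoc]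
    rw [e]; infer_instance
  obtain ⟨K₀, hK₀⟩ := exists_isSeparated p k.ker
  haveI := hK₀
  let i₀ : (Sub k.ker)ᵒᵖ := Opposite.op K₀
  haveI : LocallyOfFinitePresentation K₀.1.subschemeι := lfp_subschemeι K₀.2.2
  haveI : CompactSpace K₀.1.subscheme := QuasiCompact.compactSpace_of_compactSpace K₀.1.subschemeι
  haveI : IsClosedImmersion ((subC p k.ker).π.app i₀) := by
    haveI : IsClosedImmersion (IdealSheafData.inclusion K₀.2.1 ≫ K₀.1.subschemeι) := by
      rw [IdealSheafData.inclusion_subschemeι]; infer_instance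
    exact IsClosedImmersion.of_comp (IdealSheafData.inclusion K₀.2.1) K₀.1.subschemeι
  let f₀ : K₀.1.subscheme ⟶ S := K₀.1.subschemeι ≫ p
  haveI : IsSeparated f₀ := hK₀
  haveI : QuasiCompact f₀ := quasiCompact_of_compactSpace f₀
  let a : (subD p k.ker).obj i₀ ⟶ K₀.1.subscheme := 𝟙 _
  haveI : IsClosedImmersion a := inferInstanceAs (IsClosedImmersion (𝟙 K₀.1.subscheme))
  haveI : IsProper ((subC p k.ker).π.app i₀ ≫ a ≫ f₀) := by
    show IsProper (IdealSheafData.inclusion K₀.2.1 ≫ 𝟙 _ ≫ K₀.1.subschemeι ≫ p)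
    rw [Category.id_comp, IdealSheafData.inclusion_subschemeι_assoc]
    infer_instance
  obtain ⟨j, hj⟩ := exists_isProper (isLimitSubC p k.ker) f₀ a
  let K₁ : Sub k.ker := j.left.unop
  have hK₁ : IsProper (K₁.1.subschemeι ≫ p) := by
    have e : (subD p k.ker).map j.hom ≫ a ≫ f₀ = K₁.1.subschemeι ≫ p := by
      show IdealSheafData.inclusion (show K₀.1 ≤ K₁.1 from j.hom.unop.le) ≫
        𝟙 _ ≫ K₀.1.subschemeι ≫ p = _
      rw [Category.id_comp, IdealSheafData.inclusion_subschemeι_assoc]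
    exact e ▸ hj
  haveI : LocallyOfFinitePresentation K₁.1.subschemeι := lfp_subschemeι K₁.2.2
  let k₁ : X ⟶ K₁.1.subscheme := IsClosedImmersion.lift K₁.1.subschemeι k
    (K₁.1.ker_subschemeι.le.trans K₁.2.1)
  have hk₁ : k₁ ≫ K₁.1.subschemeι = k := IsClosedImmersion.lift_fac _ _ _
  haveI : IsClosedImmersion (k₁ ≫ K₁.1.subschemeι) := by rw [hk₁]; infer_instance
  exact ⟨_, K₁.1.subschemeι ≫ p, k₁, hK₁, inferInstance, IsClosedImmersion.of_comp k₁ K₁.1.subschemeι,
    by rw [reassoc_of% hk₁, hkp]⟩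

/-- A finite morphism is a closed subscheme of one finite and of finite presentation. -/
theorem exists_finite_hull [IsFinite f] :
    ∃ (P : Scheme.{u}) (p : P ⟶ S) (k : X ⟶ P), IsFinite p ∧ LocallyOfFinitePresentation p ∧
      IsClosedImmersion k ∧ k ≫ p = f := by
  obtain ⟨P, p, k, hP, hp, hk, hkp⟩ := exists_proper_hull f
  haveI : CompactSpace P := QuasiCompact.compactSpace_of_compactSpace p
  haveI : QuasiSeparatedSpace P := quasiSeparatedSpace_of_quasiSeparated p
  let b : Sub k.ker := ⟨⊥, bot_le, isFG_bot⟩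
  haveI : IsAffineHom ((subC p k.ker).π.app (Opposite.op b) ≫ b.1.subschemeι ≫ p) := by
    have e : k.ker.subschemeι ≫ p = inv k.toImage ≫ f := by
      rw [← hkp, IsIso.eq_inv_comp, Scheme.Hom.toImage_imageι_assoc]
    show IsAffineHom (IdealSheafData.inclusion b.2.1 ≫ b.1.subschemeι ≫ p)
    rw [IdealSheafData.inclusion_subschemeι_assoc, e]
    infer_instance
  obtain ⟨j, hj⟩ := exists_isAffineHom (isLimitSubC p k.ker) (i₀ := Opposite.op b)
    (b.1.subschemeι ≫ p)
  let K₁ : Sub k.ker := j.left.unop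
  haveI : IsAffineHom (K₁.1.subschemeι ≫ p) := by
    have e : (subD p k.ker).map j.hom ≫ b.1.subschemeι ≫ p = K₁.1.subschemeι ≫ p :=
      IdealSheafData.inclusion_subschemeι_assoc (show b.1 ≤ K₁.1 from j.hom.unop.le) p
    exact e ▸ hj
  haveI : LocallyOfFinitePresentation K₁.1.subschemeι := lfp_subschemeι K₁.2.2
  let k₁ : X ⟶ K₁.1.subscheme := IsClosedImmersion.lift K₁.1.subschemeι k
    (K₁.1.ker_subschemeι.le.trans K₁.2.1)
  have hk₁ : k₁ ≫ K₁.1.subschemeι = k := IsClosedImmersion.lift_fac _ _ _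
  haveI : IsClosedImmersion (k₁ ≫ K₁.1.subschemeι) := by rw [hk₁]; infer_instance
  exact ⟨_, K₁.1.subschemeι ≫ p, k₁, IsFinite.iff_isProper_and_isAffineHom.2 ⟨inferInstance, inferInstance⟩,
    inferInstance, IsClosedImmersion.of_comp k₁ K₁.1.subschemeι, by rw [reassoc_of% hk₁, hkp]⟩

omit [CompactSpace S] [QuasiSeparatedSpace S] in
/-- The system of finitely presented closed subschemes of a hull, over the base. -/
theorem exists_sub_system {P : Scheme.{u}} [CompactSpace P] [QuasiSeparatedSpace P] (p : P ⟶ S)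
    (k : X ⟶ P) [IsClosedImmersion k] (hkp : k ≫ p = f) :
    ∃ (I : Type u) (_ : Preorder I) (_ : IsDirected I (fun a b => a ≤ b)) (_ : Nonempty I)
      (D : Iᵒᵖ ⥤ Over S) (c : Cone D) (_ : IsLimit c),
      (∀ i, ∃ m : (D.obj i).left ⟶ P, IsClosedImmersion m ∧ LocallyOfFinitePresentation m ∧
        m ≫ p = (D.obj i).hom) ∧
      (∀ (i j : Iᵒᵖ) (a : i ⟶ j), IsClosedImmersion (D.map a).left) ∧
      Nonempty (c.pt ≅ Over.mk f) :=
  ⟨Sub k.ker, inferInstance, inferInstance, inferInstance, subDiagram p k.ker, subCone p k.ker,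
    isLimitSubCone p k.ker,
    fun K => ⟨K.unop.1.subschemeι, inferInstance, lfp_subschemeι K.unop.2.2, rfl⟩,
    fun _ _ a => isClosedImmersion_map p k.ker a,
    ⟨Over.isoMk (asIso k.toImage).symm (by
      show inv k.toImage ≫ f = k.ker.subschemeι ≫ p
      rw [← hkp, IsIso.inv_comp_eq, Scheme.Hom.toImage_imageι_assoc])⟩⟩

end Groth.Agent.Graft
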