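import Groth.Agent.MorLib.IdealFG3
import Groth.Agent.MorLib.EventuallyCIStr
import Groth.Agent.AlgSpPts.Sep
import Mathlib.AlgebraicGeometry.Morphisms.ClosedImmersion

/-! A closed subscheme of two schemes of finite presentation over a base lies in a common one of finite
presentation. -/

set_option autoImplicit false
set_option linter.style.haveILetI false
universe u

namespace Groth.Agent.Graft

open AlgebraicGeometry CategoryTheory Limits TopologicalSpace Opposite
open Groth.Agent.MorLib.IdealFG
open Scheme (IdealSheafData)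

theorem exists_overlap {O A B S : Scheme.{u}} [CompactSpace A] [QuasiSeparatedSpace A]
    [CompactSpace B] [QuasiSeparatedSpace B] (g : A ⟶ S) (h : B ⟶ S)
    [LocallyOfFinitePresentation g] [LocallyOfFinitePresentation h]
    (i : O ⟶ A) (j : O ⟶ B) [IsClosedImmersion i] [IsClosedImmersion j] (w : i ≫ g = j ≫ h) :
    ∃ (K : A.IdealSheafData) (φ : K.subscheme ⟶ B) (σ : O ⟶ K.subscheme), IsFG K ∧ K ≤ i.ker ∧
      IsClosedImmersion φ ∧ LocallyOfFinitePresentation φ ∧ σ ≫ K.subschemeι = i ∧ σ ≫ φ = j ∧
      φ ≫ h = K.subschemeι ≫ g := by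
  let D := subDiagram g i.ker ⋙ Over.forget S
  let c : Cone D := (Over.forget S).mapCone (subCone g i.ker)
  have hc : IsLimit c := isLimitOfPreserves (Over.forget S) (isLimitSubCone g i.ker)
  haveI hcl : ∀ {a b : (Sub i.ker)ᵒᵖ} (f : a ⟶ b), IsClosedImmersion (D.map f) := fun f =>
    isClosedImmersion_map g i.ker f
  haveI haff : ∀ {a b : (Sub i.ker)ᵒᵖ} (f : a ⟶ b), IsAffineHom (D.map f) := fun f => inferInstance
  haveI hcs : ∀ K, CompactSpace (D.obj K) := fun K => by
    haveI : CompactSpace K.unop.1.subscheme :=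
      QuasiCompact.compactSpace_of_compactSpace K.unop.1.subschemeι
    exact this
  haveI hqs : ∀ K, QuasiSeparatedSpace (D.obj K) := fun K => by
    haveI : QuasiSeparatedSpace K.unop.1.subscheme :=
      quasiSeparatedSpace_of_quasiSeparated K.unop.1.subschemeι
    exact this
  let t : D ⟶ (Functor.const _).obj S :=
    { app := fun K => K.unop.1.subschemeι ≫ g
      naturality := fun K L f => by
        exact (IdealSheafData.inclusion_subschemeι_assoc
          (show L.unop.1 ≤ K.unop.1 from f.unop.le) g).trans (Category.comp_id _).symm }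
  let e : i.image ⟶ O := inv i.toImage
  have he : i.toImage ≫ e = 𝟙 O := IsIso.hom_inv_id _
  haveI : IsIso e := inferInstanceAs (IsIso (inv i.toImage))
  let a : c.pt ⟶ B := e ≫ j
  have ha : c.π ≫ t = (Functor.const _).map (a ≫ h) := by
    ext1; ext1 K
    show IdealSheafData.inclusion K.unop.2.1 ≫ K.unop.1.subschemeι ≫ g = (e ≫ j) ≫ h
    rw [IdealSheafData.inclusion_subschemeι_assoc, Category.assoc, ← w, IsIso.eq_inv_comp,
      Scheme.Hom.toImage_imageι_assoc]
  obtain ⟨K, gK, hgK, hgKS⟩ :=
    Scheme.exists_π_app_comp_eq_of_locallyOfFinitePresentation D t h c hc a ha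
  haveI : LocallyOfFinitePresentation K.unop.1.subschemeι := lfp_subschemeι K.unop.2.2
  haveI : LocallyOfFinitePresentation (gK ≫ h) := by
    rw [hgKS]; show LocallyOfFinitePresentation (K.unop.1.subschemeι ≫ g); infer_instance
  haveI : LocallyOfFiniteType gK := locallyOfFiniteType_of_comp gK h
  haveI : IsClosedImmersion (c.π.app K ≫ gK) := by
    rw [hgK]; exact (inferInstance : IsClosedImmersion (e ≫ j))
  obtain ⟨L, hL⟩ := MorLib.EvCI.exists_isClosedImmersion_structure hc K gK
  haveI hφ := hL L (𝟙 L)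
  refine ⟨L.left.unop.1, D.map L.hom ≫ gK, i.toImage ≫ IdealSheafData.inclusion L.left.unop.2.1,
    L.left.unop.2.2, L.left.unop.2.1, hφ, ?_, ?_, ?_, ?_⟩
  · haveI : LocallyOfFinitePresentation L.left.unop.1.subschemeι := lfp_subschemeι L.left.unop.2.2
    haveI : LocallyOfFinitePresentation ((D.map L.hom ≫ gK) ≫ h) := by
      rw [Category.assoc, hgKS, t.naturality]
      show LocallyOfFinitePresentation ((L.left.unop.1.subschemeι ≫ g) ≫ 𝟙 S)
      infer_instance
    exact AlgSpPts.locallyOfFinitePresentation_of_comp (D.map L.hom ≫ gK) h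
  · rw [Category.assoc, IdealSheafData.inclusion_subschemeι, Scheme.Hom.toImage_imageι]
  · show (i.toImage ≫ c.π.app L.left) ≫ D.map L.hom ≫ gK = j
    refine (Category.assoc _ _ _).trans ?_
    refine (congrArg (i.toImage ≫ ·) ((c.w_assoc L.hom gK).trans hgK)).trans ?_
    exact (Category.assoc _ _ _).symm.trans ((congrArg (· ≫ j) he).trans (Category.id_comp j))
  · show (D.map L.hom ≫ gK) ≫ h = L.left.unop.1.subschemeι ≫ g
    rw [Category.assoc, hgKS, t.naturality]
    exact Category.comp_id _

end Groth.Agent.Graft
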