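import Groth.Agent.ShSpLib.Embedding
import Groth.Agent.EtFound.SpectralPiZero
import Mathlib.Topology.Spectral.ConstructibleTopology
import Mathlib.Topology.LocallyConstant.Basic

/-! Sheaves of sets on a spectral space and restriction to a closed subset meeting point closures
in connected sets. -/

set_option autoImplicit false
set_option linter.style.haveILetI false
set_option backward.isDefEq.respectTransparency false
set_option backward.isDefEq.respectTransparency.types false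
universe u

open CategoryTheory CategoryTheory.Limits TopologicalSpace Opposite TopCat Topology

namespace Groth.Agent.Graft

variable {X : Type u} [TopologicalSpace X] [SpectralSpace X]

/-- The compact open neighbourhoods cut out specializations. -/
theorem exists_mem_of_forall_finite {s : Set (Set X)}
    (hs : ∀ T ∈ s, T ∈ constructibleTopologySubbasis X)
    (hfin : ∀ u : Finset (Set X), (∀ T ∈ u, T ∈ s) → (⋂ T ∈ u, T).Nonempty) :
    ∃ y, ∀ T ∈ s, y ∈ T := by
  classical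
  let e : WithConstructibleTopology X → X := WithTopology.ofTopology
  have hcl : ∀ T : s, IsClosed (e ⁻¹' (T : Set X)) := by
    rintro ⟨T, hT⟩
    rw [← isOpen_compl_iff, WithConstructibleTopology.isOpen_iff]
    apply TopologicalSpace.isOpen_generateFrom_of_mem
    exact compl_mem_constructibleTopologySubbasis_iff.2 (hs T hT)
  by_contra hne
  push Not at hne
  obtain ⟨u, hu⟩ := isCompact_univ.elim_finite_subfamily_closed (fun T : s => e ⁻¹' (T : Set X)) hcl
    (Set.eq_empty_of_forall_notMem fun y hy => by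
      obtain ⟨T, hT, hyT⟩ := hne (e y)
      exact hyT (Set.mem_iInter.1 hy.2 ⟨T, hT⟩))
  obtain ⟨y, hy⟩ := hfin (u.image Subtype.val) fun T hT => by
    obtain ⟨T, -, rfl⟩ := Finset.mem_image.1 hT
    exact T.2
  refine Set.eq_empty_iff_forall_notMem.1 hu (WithTopology.toTopology _ y)
    ⟨True.intro, Set.mem_iInter₂.2 fun T hT => ?_⟩
  exact Set.mem_iInter₂.1 hy T (Finset.mem_image_of_mem _ hT)

theorem exists_compact_open {Ω : Set X} (hΩ : IsOpen Ω) {K : Set X} (hK : IsCompact K) (hKΩ : K ⊆ Ω) :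
    ∃ U : Set X, IsOpen U ∧ IsCompact U ∧ K ⊆ U ∧ U ⊆ Ω := by
  choose! U hU₁ hU₂ hU₃ hU₄ using fun (v : X) (hv : v ∈ K) => SpecLib.exists_qc (hKΩ hv) hΩ
  obtain ⟨t, htS, ht, hcov⟩ := hK.elim_finite_subcover_image (fun v hv => hU₁ v hv)
    (fun v hv => Set.mem_biUnion hv (hU₃ v hv))
  exact ⟨⋃ v ∈ t, U v, isOpen_biUnion fun v hv => hU₁ v (htS hv),
    ht.isCompact_biUnion fun v hv => hU₂ v (htS hv), hcov,
    Set.iUnion₂_subset fun v hv => hU₄ v (htS hv)⟩

variable {Z : Set X} (hZ : IsClosed Z) (hconn : ∀ x : X, IsConnected (Z ∩ closure {x}))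
include hZ hconn

theorem bijective_unit (F : TopCat.Sheaf (Type u) (TopCat.of X)) :
    Function.Bijective (((TopCat.Sheaf.pullbackPushforwardAdjunction (Type u)
      (TopCat.ofHom ⟨(Subtype.val : Z → X), continuous_subtype_val⟩)).unit.app F).hom.app (op ⊤)) := by
  classical
  let i : TopCat.of Z ⟶ TopCat.of X := TopCat.ofHom ⟨(Subtype.val : Z → X), continuous_subtype_val⟩
  have hi : IsClosedEmbedding i := hZ.isClosedEmbedding_subtypeVal
  let adj := TopCat.Sheaf.pullbackPushforwardAdjunction (Type u) i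
  let G : TopCat.Sheaf (Type u) (TopCat.of X) :=
    (TopCat.Sheaf.pushforward (Type u) i).obj ((TopCat.Sheaf.pullback (Type u) i).obj F)
  let η : F.presheaf ⟶ G.presheaf := (adj.unit.app F).1
  show Function.Bijective (η.app (op ⊤))
  have hinj : ∀ (x : TopCat.of X), x ∈ Z →
      Function.Bijective ((TopCat.Presheaf.stalkFunctor (Type u) x).map η) := by
    intro x hx
    obtain ⟨_, _⟩ := ShSpLib.pushforward_fullyFaithful hi.isInducing
    have : IsIso ((TopCat.Sheaf.pullback (Type u) i).map (adj.unit.app F)) := by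
      have hc : IsIso (adj.counit.app ((TopCat.Sheaf.pullback (Type u) i).obj F)) :=
        ShSpLib.isIso_counit hi.isInducing _
      have : IsIso ((TopCat.Sheaf.pullback (Type u) i).map (adj.unit.app F) ≫
          adj.counit.app ((TopCat.Sheaf.pullback (Type u) i).obj F)) := by
        rw [adj.left_triangle_components F]; exact IsIso.id _
      exact IsIso.of_isIso_comp_right _ (adj.counit.app ((TopCat.Sheaf.pullback (Type u) i).obj F))
    exact (isIso_iff_bijective _).1 ((NatIso.isIso_map_iff (ShSpLib.pullbackStalkIso i ⟨x, hx⟩)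
      (adj.unit.app F)).1 ((TopCat.Sheaf.forget (Type u) (TopCat.of Z) ⋙
        TopCat.Presheaf.stalkFunctor (Type u) (⟨x, hx⟩ : TopCat.of Z)).map_isIso
          ((TopCat.Sheaf.pullback (Type u) i).map (adj.unit.app F))))
  have htriv : ∀ (x : TopCat.of X), x ∉ Z → ∀ a b : G.presheaf.stalk x, a = b := by
    intro x hx a b
    obtain ⟨u⟩ := ShSpLib.nonempty_unique_stalk_pushforward hi ((TopCat.Sheaf.pullback (Type u) i).obj F) x
      (by rintro ⟨z, rfl⟩; exact hx z.2)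
    exact (u.uniq a).trans (u.uniq b).symm
  have hgerm : ∀ (U : Opens (TopCat.of X)) (x) (hx : x ∈ U) (s : F.presheaf.obj (op U)),
      (TopCat.Presheaf.stalkFunctor (Type u) x).map η (F.presheaf.germ U x hx s) =
        G.presheaf.germ U x hx (η.app (op U) s) := fun U x hx s =>
    TopCat.Presheaf.stalkFunctor_map_germ_apply U x hx η s
  -- agreement near a point spreads to its generalizations
  have hgen : ∀ {U V : Opens (TopCat.of X)} (s : F.presheaf.obj (op U)) (t : F.presheaf.obj (op V))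
      (x : TopCat.of X) (hxU : x ∈ U) (hxV : x ∈ V),
      F.presheaf.germ U x hxU s = F.presheaf.germ V x hxV t →
      ∃ O : Opens (TopCat.of X), x ∈ O ∧ ∀ y ∈ O, ∃ (hyU : y ∈ U) (hyV : y ∈ V),
        F.presheaf.germ U y hyU s = F.presheaf.germ V y hyV t := by
    intro U V s t x hxU hxV e
    obtain ⟨O, hxO, a, b, hab⟩ := TopCat.Presheaf.germ_eq F.presheaf x hxU hxV s t e
    refine ⟨O, hxO, fun y hy => ⟨a.le hy, b.le hy, ?_⟩⟩
    rw [← TopCat.Presheaf.germ_res_apply F.presheaf a y hy s,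
      ← TopCat.Presheaf.germ_res_apply F.presheaf b y hy t, hab]
  have hW : ∀ x : X, ∃ z ∈ Z, x ⤳ z := fun x => by
    obtain ⟨z, hz, hzx⟩ := (hconn x).nonempty
    exact ⟨z, hz, specializes_iff_mem_closure.2 hzx⟩
  constructor
  · intro s t hst
    refine TopCat.Presheaf.section_ext F ⊤ s t fun x hx => ?_
    obtain ⟨z, hz, hxz⟩ := hW x
    have e : F.presheaf.germ ⊤ z True.intro s = F.presheaf.germ ⊤ z True.intro t := by
      refine (hinj z hz).1 ?_
      rw [hgerm, hgerm, hst]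
    obtain ⟨O, hzO, hO⟩ := hgen s t z True.intro True.intro e
    obtain ⟨_, _, h⟩ := hO x (hxz.mem_open O.2 hzO)
    exact h
  intro σ
  -- local lifts
  have hloc : ∀ z : Z, ∃ (U : Opens (TopCat.of X)) (s : F.presheaf.obj (op U)),
      IsCompact (U : Set X) ∧ (z : X) ∈ U ∧ ∀ y (hy : y ∈ U),
        G.presheaf.germ U y hy (η.app (op U) s) = G.presheaf.germ ⊤ y True.intro σ := by
    intro z
    obtain ⟨a, ha⟩ := (hinj (z : X) z.2).2 (G.presheaf.germ ⊤ (z : X) True.intro σ)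
    obtain ⟨U, hzU, s, rfl⟩ := TopCat.Presheaf.exists_germ_eq F.presheaf a
    rw [hgerm] at ha
    obtain ⟨O, hzO, p, q, hpq⟩ := TopCat.Presheaf.germ_eq G.presheaf (z : X) hzU (Opens.mem_top _) _ σ ha
    obtain ⟨Q, hQo, hQc, hzQ, hQO⟩ := SpecLib.exists_qc hzO O.2
    let Q' : Opens (TopCat.of X) := ⟨Q, hQo⟩
    let r : Q' ⟶ U := homOfLE (show Q' ≤ U from fun y hy => p.le (hQO hy))
    refine ⟨Q', F.presheaf.map r.op s, hQc, hzQ, fun y hy => ?_⟩
    rw [← hgerm, TopCat.Presheaf.germ_res_apply, hgerm]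
    rw [← TopCat.Presheaf.germ_res_apply G.presheaf p y (hQO hy), hpq,
      TopCat.Presheaf.germ_res_apply]
  choose U s hUc hzU hUs using hloc
  obtain ⟨T, hT⟩ := hZ.isCompact.elim_finite_subcover (fun z : Z => (U z : Set X)) (fun z => (U z).2)
    (fun x hx => Set.mem_iUnion.2 ⟨⟨x, hx⟩, hzU ⟨x, hx⟩⟩)
  have hagree : ∀ (i j : Z) (z : TopCat.of X), z ∈ Z → ∀ (hi : z ∈ U i) (hj : z ∈ U j),
      F.presheaf.germ (U i) z hi (s i) = F.presheaf.germ (U j) z hj (s j) := fun i j z hz hi hj =>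
    (hinj z hz).1 (by rw [hgerm, hgerm, hUs, hUs])
  -- the value of the lift at a point, read off on the connected set of its specializations in `Z`
  have hval : ∀ (x : TopCat.of X), ∃ t : F.presheaf.stalk x, ∀ (z : X) (_ : z ∈ Z) (hxz : x ⤳ z)
      (j : Z) (hj : z ∈ U j), t = F.presheaf.germ (U j) x (hxz.mem_open (U j).2 hj) (s j) := by
    intro x
    let W : Set X := Z ∩ closure {x}
    have hsp : ∀ {z : X}, z ∈ W → x ⤳ z := fun hz => specializes_iff_mem_closure.2 hz.2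
    let v : W → F.presheaf.stalk x := fun z =>
      F.presheaf.germ (U ⟨z.1, z.2.1⟩) x ((hsp z.2).mem_open (U _).2 (hzU ⟨z.1, z.2.1⟩)) (s _)
    have hv : ∀ (z : W) (j : Z) (hj : (z : X) ∈ U j),
        v z = F.presheaf.germ (U j) x ((hsp z.2).mem_open (U j).2 hj) (s j) := by
      intro z j hj
      obtain ⟨O, hzO, hO⟩ := hgen _ _ (z : X) (hzU ⟨z.1, z.2.1⟩) hj (hagree _ j z.1 z.2.1 _ hj)
      obtain ⟨_, _, h⟩ := hO x ((hsp z.2).mem_open O.2 hzO)
      exact h
    have hlc : IsLocallyConstant v := (IsLocallyConstant.iff_exists_open v).2 fun z =>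
      ⟨Subtype.val ⁻¹' (U ⟨z.1, z.2.1⟩ : Set X), (U _).2.preimage continuous_subtype_val, hzU _,
        fun w hw => hv w _ hw⟩
    haveI : PreconnectedSpace W := isPreconnected_iff_preconnectedSpace.1 (hconn x).isPreconnected
    obtain ⟨z₀, hz₀⟩ := (hconn x).nonempty
    refine ⟨v ⟨z₀, hz₀⟩, fun z hz hxz j hj => ?_⟩
    rw [hlc.apply_eq_of_preconnectedSpace ⟨z₀, hz₀⟩ ⟨z, hz, specializes_iff_mem_closure.1 hxz⟩]
    exact hv ⟨z, hz, specializes_iff_mem_closure.1 hxz⟩ j hj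
  choose t ht using hval
  let Gi : ∀ _ : T, Set X := fun i => {x | ∃ hx : x ∈ U i, F.presheaf.germ (U i) x hx (s i) = t x}
  have hGo : ∀ i : T, IsOpen (Gi i) := by
    intro i
    rw [isOpen_iff_forall_mem_open]
    rintro x ⟨hxi, hx⟩
    by_contra hcon
    push Not at hcon
    let C : Set (Set X) := {O | IsOpen O ∧ IsCompact O ∧ x ∈ O ∧ O ⊆ U i}
    have hwit : ∀ O ∈ C, ∃ j : T, ∃ y ∈ O, (∃ z ∈ Z, z ∈ U j ∧ y ⤳ z) ∧
        ∀ (hi : y ∈ U i) (hj : y ∈ U j),
          F.presheaf.germ (U i) y hi (s i) ≠ F.presheaf.germ (U j) y hj (s j) := by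
      rintro O ⟨hOo, -, hxO, hOU⟩
      have hnot : ¬ O ⊆ Gi i := fun h => hcon O h hOo hxO
      obtain ⟨y, hyO, hyG⟩ := Set.not_subset.1 hnot
      obtain ⟨z, hz, hyz⟩ := hW y
      obtain ⟨j, hjT, hzj⟩ := Set.mem_iUnion₂.1 (hT hz)
      refine ⟨⟨j, hjT⟩, y, hyO, ⟨z, hz, hzj, hyz⟩, fun hi hj e => hyG ⟨hi, ?_⟩⟩
      exact e.trans (ht y z hz hyz j hzj).symm
    have hj₀ : ∃ j : T, ∀ O ∈ C, ∃ y ∈ O, (∃ z ∈ Z, z ∈ U j ∧ y ⤳ z) ∧
        ∀ (hi : y ∈ U i) (hj : y ∈ U j),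
          F.presheaf.germ (U i) y hi (s i) ≠ F.presheaf.germ (U j) y hj (s j) := by
      by_contra h
      push Not at h
      choose O hO hOn using h
      obtain ⟨Q, hQo, hQc, hxQ, hQ⟩ := SpecLib.exists_qc
        (show x ∈ (⋂ j : T, O j) ∩ (U i : Set X) from ⟨Set.mem_iInter.2 fun j => (hO j).2.2.1, hxi⟩)
        ((isOpen_iInter_of_finite fun j => (hO j).1).inter (U i).2)
      obtain ⟨j, y, hy, hz, hne⟩ := hwit Q ⟨hQo, hQc, hxQ, fun y hy => (hQ hy).2⟩
      obtain ⟨z, hzZ, hzj, hyz⟩ := hz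
      obtain ⟨hi, hj, e⟩ := hOn j y (Set.mem_iInter.1 (hQ hy).1 j) ⟨z, hzZ, hzj, hyz⟩
      exact hne hi hj e
    obtain ⟨j, hj⟩ := hj₀
    let E : Set X := {y | ∃ (hi : y ∈ U i) (hj : y ∈ U j),
      F.presheaf.germ (U i) y hi (s i) = F.presheaf.germ (U j) y hj (s j)}
    let fam : Set (Set X) := C ∪
      {Ω | IsOpen Ω ∧ IsCompact Ω ∧ (Z ∩ (U j : Set X)) ⊆ Ω} ∪
      {R | ∃ Q : Set X, R = Qᶜ ∧ IsOpen Q ∧ IsCompact Q ∧ Q ⊆ E}
    obtain ⟨y, hy⟩ := exists_mem_of_forall_finite (s := fam) (by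
        rintro R ((hR | hR) | ⟨Q, rfl, hQo, hQc, -⟩)
        · exact .inl ⟨hR.1, hR.2.1⟩
        · exact .inl ⟨hR.1, hR.2.1⟩
        · exact .inr ⟨hQo.isClosed_compl, by rwa [compl_compl]⟩)
      (by
        intro u hu
        obtain ⟨O, hOo, hOc, hxO, hO⟩ := SpecLib.exists_qc
          (show x ∈ (⋂ R ∈ u.filter (· ∈ C), R) ∩ (U i : Set X) from
            ⟨Set.mem_iInter₂.2 fun R hR => (Finset.mem_filter.1 hR).2.2.2.1, hxi⟩)
          ((isOpen_biInter_finset fun R hR => (Finset.mem_filter.1 hR).2.1).inter (U i).2)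
        obtain ⟨y, hy, ⟨z, hz, hzj, hyz⟩, hne⟩ := hj O ⟨hOo, hOc, hxO, fun w hw => (hO hw).2⟩
        refine ⟨y, Set.mem_iInter₂.2 fun R hR => ?_⟩
        rcases hu R hR with (hR' | hR') | ⟨Q, rfl, -, -, hQE⟩
        · exact Set.mem_iInter₂.1 (hO hy).1 R (Finset.mem_filter.2 ⟨hR, hR'⟩)
        · exact hyz.mem_open hR'.1 (hR'.2.2 ⟨hz, hzj⟩)
        · intro hyQ
          obtain ⟨h1, h2, h3⟩ := hQE hyQ
          exact hne h1 h2 h3)
    have hyx : y ⤳ x := by
      refine specializes_iff_forall_open.2 fun Ω hΩ hxΩ => ?_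
      obtain ⟨Q, hQo, hQc, hxQ, hQ⟩ := SpecLib.exists_qc (show x ∈ Ω ∩ (U i : Set X) from ⟨hxΩ, hxi⟩)
        (hΩ.inter (U i).2)
      exact (hQ (hy Q (.inl (.inl ⟨hQo, hQc, hxQ, fun w hw => (hQ hw).2⟩)))).1
    obtain ⟨z, hz, hzj, hyz⟩ : ∃ z ∈ Z, z ∈ U j ∧ y ⤳ z := by
      by_contra h
      push Not at h
      have hK : IsCompact (Z ∩ (U j : Set X)) := (hUc j).inter_left hZ
      obtain ⟨Ω, hΩo, hΩc, hKΩ, hΩy⟩ := exists_compact_open
        (Ω := (closure {y})ᶜ) isClosed_closure.isOpen_compl hK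
        (fun w hw hwy => h w hw.1 hw.2 (specializes_iff_mem_closure.2 hwy))
      exact hΩy (hy Ω (.inl (.inr ⟨hΩo, hΩc, hKΩ⟩))) (subset_closure rfl)
    have hyi : y ∈ U i := hyx.mem_open (U i).2 hxi
    -- the value at `y` is that of `s i`, as at `x`
    obtain ⟨z', hz', hxz'⟩ := hW x
    obtain ⟨O, hxO, hO⟩ := hgen (s i) (s ⟨z', hz'⟩) x hxi (hxz'.mem_open (U _).2 (hzU ⟨z', hz'⟩))
      (hx.trans (ht x z' hz' hxz' _ (hzU ⟨z', hz'⟩)))
    obtain ⟨_, _, he⟩ := hO y (hyx.mem_open O.2 hxO)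
    have hyE : y ∈ E := ⟨hyi, hyz.mem_open (U j).2 hzj,
      (he.trans (ht y z' hz' (hyx.trans hxz') _ (hzU ⟨z', hz'⟩)).symm).trans (ht y z hz hyz j hzj)⟩
    have hEo : IsOpen E := by
      rw [isOpen_iff_forall_mem_open]
      rintro w ⟨h1, h2, h3⟩
      obtain ⟨O', hwO, hO'⟩ := hgen _ _ w h1 h2 h3
      exact ⟨O', fun v hv => hO' v hv, O'.2, hwO⟩
    obtain ⟨Q, hQo, hQc, hyQ, hQE⟩ := SpecLib.exists_qc hyE hEo
    exact hy Qᶜ (.inr ⟨Q, rfl, hQo, hQc, hQE⟩) hyQ
  -- glue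
  let V : T → Opens (TopCat.of X) := fun i => ⟨Gi i, hGo i⟩
  let sec : ∀ i : T, F.presheaf.obj (op (V i)) := fun i =>
    F.presheaf.map (homOfLE (show V i ≤ U i from fun x hx => hx.1)).op (s i)
  have hsec : ∀ (i : T) (x : TopCat.of X) (hx : x ∈ V i), F.presheaf.germ (V i) x hx (sec i) = t x :=
    fun i x hx => by
      rw [TopCat.Presheaf.germ_res_apply]; exact hx.2
  obtain ⟨τ, hτ, -⟩ := F.existsUnique_gluing' V ⊤ (fun _ => homOfLE le_top) (fun x _ => by
      obtain ⟨z, hz, hxz⟩ := hW x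
      obtain ⟨j, hjT, hzj⟩ := Set.mem_iUnion₂.1 (hT hz)
      exact Opens.mem_iSup.2 ⟨⟨j, hjT⟩, ⟨hxz.mem_open (U j).2 hzj, (ht x z hz hxz j hzj).symm⟩⟩)
    sec (fun i j => TopCat.Presheaf.section_ext F _ _ _ fun x hx =>
      (TopCat.Presheaf.germ_res_apply F.presheaf (Opens.infLELeft (V i) (V j)) x hx (sec i)).trans
        (((hsec i x hx.1).trans (hsec j x hx.2).symm).trans
          (TopCat.Presheaf.germ_res_apply F.presheaf (Opens.infLERight (V i) (V j)) x hx (sec j)).symm))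
  refine ⟨τ, TopCat.Presheaf.section_ext G ⊤ _ _ fun x hx => ?_⟩
  by_cases hxZ : x ∈ Z
  · obtain ⟨j, hjT, hxj⟩ := Set.mem_iUnion₂.1 (hT hxZ)
    have hxV : x ∈ V ⟨j, hjT⟩ := ⟨hxj, (ht x x hxZ (specializes_refl x) j hxj).symm⟩
    have e : F.presheaf.germ ⊤ x hx τ = F.presheaf.germ (U j) x hxj (s j) := by
      rw [← TopCat.Presheaf.germ_res_apply F.presheaf (homOfLE (le_top : V ⟨j, hjT⟩ ≤ ⊤)) x hxV τ,
        hτ ⟨j, hjT⟩, hsec]
      exact ht x x hxZ (specializes_refl x) j hxj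
    rw [← hgerm, e, hgerm, hUs]
  · exact htriv x hxZ _ _

omit hconn in
/-- Unique lifting of clopens gives a bijection on connected components. -/
theorem bijective_connectedComponentsMap {P : Type u} [TopologicalSpace P] [SpectralSpace P]
    (φ : P → X) (hφ : Continuous φ) (hr : Set.range φ = Z)
    (h : ∀ V : Set P, IsClopen V → ∃! U : Set X, IsClopen U ∧ φ ⁻¹' U = V) :
    Function.Bijective hφ.connectedComponentsMap := by
  classical
  constructor
  · intro a b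
    obtain ⟨p, rfl⟩ := ConnectedComponents.surjective_coe a
    obtain ⟨q, rfl⟩ := ConnectedComponents.surjective_coe b
    intro hpq
    have hpq' : (φ p : ConnectedComponents X) = φ q := hpq
    rw [ConnectedComponents.coe_eq_coe] at hpq'
    by_contra hne
    have hq : q ∉ connectedComponent p := fun hq =>
      hne (ConnectedComponents.coe_eq_coe'.mpr hq).symm
    rw [EtFound.SpectralPiZero.connectedComponent_eq_iInter_clopen] at hq
    obtain ⟨V, ⟨hV, hpV⟩, hqV⟩ := by simpa only [Set.mem_sInter, not_forall] using hq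
    obtain ⟨U, ⟨hU, hUV⟩, -⟩ := h V hV
    refine hqV ((Set.ext_iff.mp hUV q).mp (hU.connectedComponent_subset ((Set.ext_iff.mp hUV p).mpr hpV) ?_))
    rw [hpq']; exact mem_connectedComponent
  · intro c
    obtain ⟨x, rfl⟩ := ConnectedComponents.surjective_coe c
    have hmeet : (Z ∩ connectedComponent x).Nonempty := by
      rw [EtFound.SpectralPiZero.connectedComponent_eq_iInter_clopen, Set.sInter_eq_iInter]
      refine hZ.isCompact.inter_iInter_nonempty _ (fun W => W.2.1.1) fun u => ?_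
      have hclop : IsClopen (⋂ W ∈ u, (W : {W : Set X | IsClopen W ∧ x ∈ W}).1) :=
        isClopen_biInter_finset fun W _ => W.2.1
      by_contra he
      have hpre : φ ⁻¹' (⋂ W ∈ u, (W : {W : Set X | IsClopen W ∧ x ∈ W}).1) = ∅ :=
        Set.eq_empty_of_forall_notMem fun p hp => he ⟨φ p, hr.le ⟨p, rfl⟩, hp⟩
      obtain ⟨U, -, hu⟩ := h ∅ isClopen_empty
      have h1 := (hu _ ⟨hclop, hpre⟩).trans (hu ∅ ⟨isClopen_empty, Set.preimage_empty⟩).symm
      exact Set.eq_empty_iff_forall_notMem.1 h1 x (Set.mem_iInter₂.2 fun W _ => W.2.2)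
    obtain ⟨y, hyZ, hy⟩ := hmeet
    obtain ⟨p, rfl⟩ := hr.ge hyZ
    exact ⟨p, (ConnectedComponents.coe_eq_coe'.mpr hy)⟩

end Groth.Agent.Graft
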