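import Groth.Agent.Graft.Extend
import Groth.Agent.Graft.Overlap
import Groth.Agent.LocImmLib.Glue
import Groth.Agent.ConsPropLib.Union
import Groth.Agent.MorLib.QSCover

/-! Gluing closed immersions into schemes of finite presentation along a quasi-compact open. -/

set_option autoImplicit false
set_option linter.style.haveILetI false
universe u

namespace Groth.Agent.Graft

open AlgebraicGeometry CategoryTheory Limits TopologicalSpace Opposite
open Groth.Agent.MorLib.IdealFG
open Scheme (IdealSheafData)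

/-- `f` factors as a closed immersion into a quasi-compact quasi-separated scheme locally of finite
presentation over the base. -/
def HasModel {X S : Scheme.{u}} (f : X ⟶ S) : Prop :=
  ∃ (P : Scheme.{u}) (p : P ⟶ S) (k : X ⟶ P), CompactSpace P ∧ QuasiSeparatedSpace P ∧
    LocallyOfFinitePresentation p ∧ IsClosedImmersion k ∧ k ≫ p = f

/-- A quasi-compact open is pulled back from a quasi-compact open along a closed immersion. -/
theorem exists_compact_open_preimage {U U' : Scheme.{u}} (i : U ⟶ U') [IsClosedImmersion i]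
    (O : U.Opens) (hO : IsCompact (O : Set U)) :
    ∃ O' : U'.Opens, IsCompact (O' : Set U') ∧ i ⁻¹ᵁ O' = O := by
  obtain ⟨Ω, hΩ, hΩO⟩ := i.isClosedEmbedding.isInducing.isOpen_iff.mp O.2
  have hsub : i '' (O : Set U) ⊆ Ω := by
    rintro _ ⟨x, hx, rfl⟩
    exact hΩO.ge hx
  have hA : ∀ y : i '' (O : Set U), ∃ A : U'.affineOpens, (y : U') ∈ A.1 ∧ (A.1 : Set U') ⊆ Ω :=
    fun y => by
      obtain ⟨A, hA, hyA, hAΩ⟩ :=
        exists_isAffineOpen_mem_and_subset (U := (⟨Ω, hΩ⟩ : U'.Opens)) (hsub y.2)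
      exact ⟨⟨A, hA⟩, hyA, hAΩ⟩
  choose A hyA hAΩ using hA
  obtain ⟨s, hs⟩ := (hO.image i.continuous).elim_finite_subcover
    (fun y => ((A y).1 : Set U')) (fun y => (A y).1.2)
    (fun y hy => Set.mem_iUnion.2 ⟨⟨y, hy⟩, hyA ⟨y, hy⟩⟩)
  refine ⟨⟨⋃ y ∈ s, ((A y).1 : Set U'), isOpen_biUnion fun y _ => (A y).1.2⟩,
    s.isCompact_biUnion fun y _ => (A y).2.isCompact, Opens.ext (Set.Subset.antisymm ?_ ?_)⟩
  · intro x hx
    obtain ⟨y, -, hy⟩ := Set.mem_iUnion₂.1 hx
    exact hΩO.le (hAΩ y hy)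
  · intro x hx
    exact hs ⟨x, hx, rfl⟩

/-- A union of two quasi-separated opens with quasi-compact intersection is quasi-separated. -/
theorem quasiSeparatedSpace_of_two {P A B : Scheme.{u}} (a : A ⟶ P) (b : B ⟶ P) [IsOpenImmersion a]
    [IsOpenImmersion b] [QuasiSeparatedSpace A] [QuasiSeparatedSpace B]
    (hcov : ∀ x, x ∈ Set.range a ∨ x ∈ Set.range b)
    (hc : IsCompact (Set.range a ∩ Set.range b)) : QuasiSeparatedSpace P := by
  rw [quasiSeparatedSpace_iff_forall_affineOpens]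
  intro U V
  have key : ∀ {C : Scheme.{u}} (c : C ⟶ P) [IsOpenImmersion c] [QuasiSeparatedSpace C]
      (M N : Set P), M ⊆ Set.range c → IsOpen M → IsCompact M → N ⊆ Set.range c → IsOpen N →
      IsCompact N → IsCompact (M ∩ N) := by
    intro C c _ _ M N hM hMo hMc hN hNo hNc
    have hq : IsQuasiSeparated (Set.range c) := by
      rw [← Set.image_univ]
      exact (isQuasiSeparated_univ_iff.mpr inferInstance).image_of_isEmbedding
        c.isOpenEmbedding.isEmbedding
    exact hq M N hM hMo hMc hN hNo hNc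
  have split : ∀ W : P.affineOpens, ∃ Ma Mb : Set P, IsOpen Ma ∧ IsCompact Ma ∧ Ma ⊆ Set.range a ∧
      IsOpen Mb ∧ IsCompact Mb ∧ Mb ⊆ Set.range b ∧ Ma ∪ Mb = (W.1 : Set P) := by
    intro W
    have hB : ∀ x : (W.1 : Set P), ∃ C : P.affineOpens, (x : P) ∈ C.1 ∧ (C.1 : Set P) ⊆ (W.1 : Set P) ∧
        ((C.1 : Set P) ⊆ Set.range a ∨ (C.1 : Set P) ⊆ Set.range b) := by
      intro x
      rcases hcov x with h | h
      · obtain ⟨C, hC, hxC, hle⟩ :=
          exists_isAffineOpen_mem_and_subset (U := W.1 ⊓ a.opensRange) (x := (x : P)) ⟨x.2, h⟩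
        exact ⟨⟨C, hC⟩, hxC, hle.trans Set.inter_subset_left, .inl (hle.trans Set.inter_subset_right)⟩
      · obtain ⟨C, hC, hxC, hle⟩ :=
          exists_isAffineOpen_mem_and_subset (U := W.1 ⊓ b.opensRange) (x := (x : P)) ⟨x.2, h⟩
        exact ⟨⟨C, hC⟩, hxC, hle.trans Set.inter_subset_left, .inr (hle.trans Set.inter_subset_right)⟩
    choose C hxC hCW hCab using hB
    obtain ⟨s, hs⟩ := W.2.isCompact.elim_finite_subcover (fun x => ((C x).1 : Set P))
      (fun x => (C x).1.2) (fun x hx => Set.mem_iUnion.2 ⟨⟨x, hx⟩, hxC ⟨x, hx⟩⟩)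
    classical
    refine ⟨⋃ x ∈ s.filter (fun x => ((C x).1 : Set P) ⊆ Set.range a), ((C x).1 : Set P),
      ⋃ x ∈ s.filter (fun x => ((C x).1 : Set P) ⊆ Set.range b), ((C x).1 : Set P),
      isOpen_biUnion fun x _ => (C x).1.2, Finset.isCompact_biUnion _ fun x _ => (C x).2.isCompact,
      Set.iUnion₂_subset fun x hx => (Finset.mem_filter.1 hx).2,
      isOpen_biUnion fun x _ => (C x).1.2, Finset.isCompact_biUnion _ fun x _ => (C x).2.isCompact,
      Set.iUnion₂_subset fun x hx => (Finset.mem_filter.1 hx).2, ?_⟩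
    refine Set.Subset.antisymm (Set.union_subset (Set.iUnion₂_subset fun x _ => hCW x)
      (Set.iUnion₂_subset fun x _ => hCW x)) fun y hy => ?_
    obtain ⟨x, hxs, hyx⟩ := Set.mem_iUnion₂.1 (hs hy)
    rcases hCab x with h | h
    · exact .inl (Set.mem_biUnion (Finset.mem_filter.2 ⟨hxs, h⟩) hyx)
    · exact .inr (Set.mem_biUnion (Finset.mem_filter.2 ⟨hxs, h⟩) hyx)
  obtain ⟨Ua, Ub, hUao, hUac, hUa, hUbo, hUbc, hUb, hU⟩ := split U
  obtain ⟨Va, Vb, hVao, hVac, hVa, hVbo, hVbc, hVb, hV⟩ := split V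
  have hab : IsOpen (Set.range a ∩ Set.range b) :=
    a.isOpenEmbedding.isOpen_range.inter b.isOpenEmbedding.isOpen_range
  have mixed : ∀ M N : Set P, IsOpen M → IsCompact M → M ⊆ Set.range a → IsOpen N → IsCompact N →
      N ⊆ Set.range b → IsCompact (M ∩ N) := by
    intro M N hMo hMc hMa hNo hNc hNb
    have h1 := key a M _ hMa hMo hMc Set.inter_subset_left hab hc
    have h2 := key b (M ∩ (Set.range a ∩ Set.range b)) N
      (Set.inter_subset_right.trans Set.inter_subset_right) (hMo.inter hab) h1 hNb hNo hNc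
    convert h2 using 1
    ext z
    exact ⟨fun h => ⟨⟨h.1, hMa h.1, hNb h.2⟩, h.2⟩, fun h => ⟨h.1.1, h.2⟩⟩
  rw [← hU, ← hV, Set.union_inter_distrib_right, Set.inter_union_distrib_left,
    Set.inter_union_distrib_left]
  exact ((key a _ _ hUa hUao hUac hVa hVao hVac).union (mixed _ _ hUao hUac hUa hVbo hVbc hVb)).union
    ((Set.inter_comm Va Ub ▸ mixed _ _ hVao hVac hVa hUbo hUbc hUb).union
      (key b _ _ hUb hUbo hUbc hVb hVbo hVbc))

theorem hasModel_of_cover {X S : Scheme.{u}} (f : X ⟶ S) (U W : X.Opens)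
    (hcov : ∀ x, x ∈ U ∨ x ∈ W) (hc : IsCompact ((U ⊓ W : X.Opens) : Set X))
    (hU : HasModel (U.ι ≫ f)) (hW : HasModel (W.ι ≫ f)) : HasModel f := by
  obtain ⟨A, g, i, hAc, hAq, hg, hi, hig⟩ := hU
  obtain ⟨B, h, j, hBc, hBq, hh, hj, hjh⟩ := hW
  let O : Scheme.{u} := ((U ⊓ W : X.Opens) : Scheme.{u})
  let a : O ⟶ U := X.homOfLE inf_le_left
  let b : O ⟶ W := X.homOfLE inf_le_right
  have hab : a ≫ U.ι = b ≫ W.ι := by simp [a, b]
  -- the quasi-compact opens of the two models cutting out the overlap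
  have hcO : ∀ {V : X.Opens} (c : O ⟶ V) (_ : c ≫ V.ι = (U ⊓ W : X.Opens).ι),
      IsCompact (Set.range c) := fun {V} c _ => by
    haveI : CompactSpace O := isCompact_iff_compactSpace.mp hc
    exact isCompact_range c.continuous
  obtain ⟨A₀, hA₀c, hA₀⟩ := exists_compact_open_preimage i a.opensRange
    (hcO a (Scheme.homOfLE_ι _ _))
  obtain ⟨B₀, hB₀c, hB₀⟩ := exists_compact_open_preimage j b.opensRange
    (hcO b (Scheme.homOfLE_ι _ _))
  let i₀ : O ⟶ (A₀ : Scheme.{u}) := IsOpenImmersion.lift A₀.ι (a ≫ i) (by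
    rw [Scheme.Opens.range_ι]; rintro _ ⟨z, rfl⟩
    show a z ∈ i ⁻¹ᵁ A₀
    rw [hA₀]; exact ⟨z, rfl⟩)
  let j₀ : O ⟶ (B₀ : Scheme.{u}) := IsOpenImmersion.lift B₀.ι (b ≫ j) (by
    rw [Scheme.Opens.range_ι]; rintro _ ⟨z, rfl⟩
    show b z ∈ j ⁻¹ᵁ B₀
    rw [hB₀]; exact ⟨z, rfl⟩)
  have hi₀ : i₀ ≫ A₀.ι = a ≫ i := IsOpenImmersion.lift_fac _ _ _
  have hj₀ : j₀ ≫ B₀.ι = b ≫ j := IsOpenImmersion.lift_fac _ _ _
  have sqA : IsPullback i₀ a A₀.ι i := IsOpenImmersion.isPullback i₀ a A₀.ι i hi₀.symm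
    (by rw [Scheme.Opens.opensRange_ι]; exact hA₀)
  have sqB : IsPullback j₀ b B₀.ι j := IsOpenImmersion.isPullback j₀ b B₀.ι j hj₀.symm
    (by rw [Scheme.Opens.opensRange_ι]; exact hB₀)
  haveI : IsClosedImmersion i₀ := MorphismProperty.of_isPullback sqA.flip inferInstance
  haveI : IsClosedImmersion j₀ := MorphismProperty.of_isPullback sqB.flip inferInstance
  haveI : CompactSpace (A₀ : Scheme.{u}) := isCompact_iff_compactSpace.mp hA₀c
  haveI : CompactSpace (B₀ : Scheme.{u}) := isCompact_iff_compactSpace.mp hB₀c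
  haveI : QuasiSeparatedSpace (A₀ : Scheme.{u}) := A₀.ι.isOpenEmbedding.quasiSeparatedSpace
  haveI : QuasiSeparatedSpace (B₀ : Scheme.{u}) := B₀.ι.isOpenEmbedding.quasiSeparatedSpace
  obtain ⟨K, φ, σ, hK, hKle, hφ, hφfp, hσA, hσB, hφS⟩ := exists_overlap (A₀.ι ≫ g) (B₀.ι ≫ h) i₀ j₀
    (by rw [reassoc_of% hi₀, reassoc_of% hj₀, hig, hjh, reassoc_of% hab])
  have hkerA : i₀.ker = i.ker.comap A₀.ι := by
    rw [← IdealSheafData.map_bot, ← IdealSheafData.map_bot, ← comap_map sqA ⊥,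
      IdealSheafData.comap_bot]
  obtain ⟨KA, hKA, hKAfg, hKAcomap⟩ := exists_fg_extend i.ker A₀ hA₀c K hK (hKle.trans hkerA.le)
  have hkerB : j₀.ker = j.ker.comap B₀.ι := by
    rw [← IdealSheafData.map_bot, ← IdealSheafData.map_bot, ← comap_map sqB ⊥,
      IdealSheafData.comap_bot]
  obtain ⟨KB, hKB, hKBfg, hKBcomap⟩ := exists_fg_extend j.ker B₀ hB₀c φ.ker (isFG_ker φ)
    (((Scheme.Hom.le_ker_comp σ φ).trans (le_of_eq (by rw [hσB]))).trans hkerB.le)
  obtain ⟨zA, hzA, sqzA⟩ := exists_isPullback_subscheme hKAcomap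
  obtain ⟨zB', hzB', sqzB⟩ := exists_isPullback_subscheme hKBcomap
  let zB : K.subscheme ⟶ KB.subscheme := φ.toImage ≫ zB'
  haveI : IsOpenImmersion zB := inferInstance
  have hzBι : zB ≫ KB.subschemeι = φ ≫ B₀.ι := by
    show (φ.toImage ≫ zB') ≫ KB.subschemeι = _
    rw [Category.assoc, sqzB.w, Scheme.Hom.toImage_imageι_assoc]
  let iA : (U : Scheme.{u}) ⟶ KA.subscheme :=
    IsClosedImmersion.lift KA.subschemeι i (KA.ker_subschemeι.le.trans hKA)
  let jB : (W : Scheme.{u}) ⟶ KB.subscheme :=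
    IsClosedImmersion.lift KB.subschemeι j (KB.ker_subschemeι.le.trans hKB)
  have hiA : iA ≫ KA.subschemeι = i := IsClosedImmersion.lift_fac _ _ _
  have hjB : jB ≫ KB.subschemeι = j := IsClosedImmersion.lift_fac _ _ _
  haveI : IsClosedImmersion iA := by
    haveI : IsClosedImmersion (iA ≫ KA.subschemeι) := by rw [hiA]; infer_instance
    exact IsClosedImmersion.of_comp iA KA.subschemeι
  haveI : IsClosedImmersion jB := by
    haveI : IsClosedImmersion (jB ≫ KB.subschemeι) := by rw [hjB]; infer_instance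
    exact IsClosedImmersion.of_comp jB KB.subschemeι
  have haA : a ≫ iA = σ ≫ zA := by
    rw [← cancel_mono KA.subschemeι, Category.assoc, hiA, Category.assoc, sqzA.w,
      reassoc_of% hσA, hi₀]
  have hbB : b ≫ jB = σ ≫ zB := by
    rw [← cancel_mono KB.subschemeι, Category.assoc, hjB, Category.assoc, hzBι,
      reassoc_of% hσB, hj₀]
  let pA : KA.subscheme ⟶ S := KA.subschemeι ≫ g
  let pB : KB.subscheme ⟶ S := KB.subschemeι ≫ h
  have w : zA ≫ pA = zB ≫ pB := by
    rw [reassoc_of% sqzA.w, reassoc_of% hzBι, hφS]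
  haveI : LocallyOfFinitePresentation KA.subschemeι := lfp_subschemeι hKAfg
  haveI : LocallyOfFinitePresentation KB.subschemeι := lfp_subschemeι hKBfg
  haveI : LocallyOfFinitePresentation pA := MorphismProperty.comp_mem _ _ _ ‹_› hg
  haveI : LocallyOfFinitePresentation pB := MorphismProperty.comp_mem _ _ _ ‹_› hh
  haveI : CompactSpace KA.subscheme := QuasiCompact.compactSpace_of_compactSpace KA.subschemeι
  haveI : CompactSpace KB.subscheme := QuasiCompact.compactSpace_of_compactSpace KB.subschemeι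
  haveI : CompactSpace K.subscheme := QuasiCompact.compactSpace_of_compactSpace K.subschemeι
  haveI : QuasiSeparatedSpace KA.subscheme := quasiSeparatedSpace_of_quasiSeparated KA.subschemeι
  haveI : QuasiSeparatedSpace KB.subscheme := quasiSeparatedSpace_of_quasiSeparated KB.subschemeι
  let P := pushout zA zB
  let ιA : KA.subscheme ⟶ P := pushout.inl zA zB
  let ιB : KB.subscheme ⟶ P := pushout.inr zA zB
  haveI : IsOpenImmersion ιA := inferInstanceAs (IsOpenImmersion (pushout.inl zA zB))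
  haveI : IsOpenImmersion ιB := inferInstanceAs (IsOpenImmersion (pushout.inr zA zB))
  let p : P ⟶ S := pushout.desc pA pB w
  have hpA : ιA ≫ p = pA := pushout.inl_desc _ _ _
  have hpB : ιB ≫ p = pB := pushout.inr_desc _ _ _
  have hcovP : ∀ x : P, x ∈ Set.range ιA ∨ x ∈ Set.range ιB :=
    LocImmLib.pushout_jointly_surjective zA zB
  let cov : P.OpenCover := Scheme.Cover.mkOfCovers Bool
    (fun t => Bool.rec KA.subscheme KB.subscheme t)
    (fun t => Bool.rec (motive := fun t => Bool.rec KA.subscheme KB.subscheme t ⟶ P) ιA ιB t)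
    (fun x => (hcovP x).elim (fun ⟨z, hz⟩ => ⟨false, z, hz⟩) (fun ⟨z, hz⟩ => ⟨true, z, hz⟩))
    (fun t => by cases t <;> infer_instance)
  have hPc : CompactSpace P := by
    constructor
    have : (Set.univ : Set P) = Set.range ιA ∪ Set.range ιB :=
      (Set.eq_univ_of_forall hcovP).symm
    rw [this]
    exact (isCompact_range ιA.continuous).union (isCompact_range ιB.continuous)
  have hPq : QuasiSeparatedSpace P := by
    refine quasiSeparatedSpace_of_two ιA ιB hcovP ?_
    have e : Set.range ιA ∩ Set.range ιB = Set.range (zA ≫ ιA) := by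
      refine Set.Subset.antisymm ?_ ?_
      · rintro _ ⟨⟨u, rfl⟩, ⟨v, hv⟩⟩
        obtain ⟨z, rfl, -⟩ := (LocImmLib.pushout_eq_iff zA zB).1 hv.symm
        exact ⟨z, Scheme.Hom.comp_apply _ _ _⟩
      · rintro _ ⟨z, rfl⟩
        refine ⟨⟨zA z, (Scheme.Hom.comp_apply _ _ _).symm⟩, ⟨zB z, ?_⟩⟩
        rw [← Scheme.Hom.comp_apply]
        exact congrArg (fun m : K.subscheme ⟶ P => m z) pushout.condition.symm
    rw [e]
    exact isCompact_range (zA ≫ ιA).continuous
  haveI : IsZariskiLocalAtSource (@LocallyOfFinitePresentation : MorphismProperty Scheme.{u}) :=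
    HasRingHomProperty.instIsZariskiLocalAtSource (Q := RingHom.FinitePresentation)
  have hPfp : LocallyOfFinitePresentation p := by
    refine IsZariskiLocalAtSource.of_openCover (P := @LocallyOfFinitePresentation) cov fun t => ?_
    cases t
    · show LocallyOfFinitePresentation (ιA ≫ p)
      rw [hpA]; infer_instance
    · show LocallyOfFinitePresentation (ιB ≫ p)
      rw [hpB]; infer_instance
  obtain ⟨k, hkU, hkW⟩ := ConsPropLib.exists_hom_of_cover U W hcov (iA ≫ ιA) (jB ≫ ιB) (by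
    show a ≫ iA ≫ ιA = b ≫ jB ≫ ιB
    rw [reassoc_of% haA, reassoc_of% hbB, pushout.condition])
  refine ⟨P, p, k, hPc, hPq, hPfp, ?_, ?_⟩
  · have hkA : k ⁻¹ᵁ ιA.opensRange = U.ι.opensRange := by
      refine Opens.ext (Set.Subset.antisymm ?_ ?_)
      · rintro x ⟨u, hu⟩
        rcases hcov x with hx | hx
        · exact ⟨⟨x, hx⟩, rfl⟩
        obtain ⟨v, rfl⟩ : x ∈ Set.range W.ι := by rw [Scheme.Opens.range_ι]; exact hx
        have h1 : ιA u = ιB (jB v) := by
          refine hu.trans ?_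
          rw [← Scheme.Hom.comp_apply, hkW, Scheme.Hom.comp_apply]
        obtain ⟨z, -, hz⟩ := (LocImmLib.pushout_eq_iff zA zB).1 h1
        have h2 : j v ∈ B₀ := by
          rw [← hjB, Scheme.Hom.comp_apply, ← hz, ← Scheme.Hom.comp_apply, hzBι,
            Scheme.Hom.comp_apply]
          exact (φ z).2
        have h3 : v ∈ b.opensRange := by rw [← hB₀]; exact h2
        obtain ⟨o, rfl⟩ := h3
        refine ⟨a o, ?_⟩
        rw [← Scheme.Hom.comp_apply, ← Scheme.Hom.comp_apply, hab]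
      · rintro _ ⟨u, rfl⟩
        exact ⟨iA u, by rw [← Scheme.Hom.comp_apply, ← hkU, Scheme.Hom.comp_apply]⟩
    have hkB : k ⁻¹ᵁ ιB.opensRange = W.ι.opensRange := by
      refine Opens.ext (Set.Subset.antisymm ?_ ?_)
      · rintro x ⟨v, hv⟩
        rcases hcov x with hx | hx
        swap
        · exact ⟨⟨x, hx⟩, rfl⟩
        obtain ⟨w, rfl⟩ : x ∈ Set.range U.ι := by rw [Scheme.Opens.range_ι]; exact hx
        have h1 : ιA (iA w) = ιB v := by
          refine (Eq.trans hv ?_).symm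
          rw [← Scheme.Hom.comp_apply, hkU, Scheme.Hom.comp_apply]
        obtain ⟨z, hz, -⟩ := (LocImmLib.pushout_eq_iff zA zB).1 h1
        have h2 : i w ∈ A₀ := by
          rw [← hiA, Scheme.Hom.comp_apply, ← hz, ← Scheme.Hom.comp_apply, sqzA.w,
            Scheme.Hom.comp_apply]
          exact (K.subschemeι z).2
        have h3 : w ∈ a.opensRange := by rw [← hA₀]; exact h2
        obtain ⟨o, rfl⟩ := h3
        refine ⟨b o, ?_⟩
        rw [← Scheme.Hom.comp_apply, ← Scheme.Hom.comp_apply, hab]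
      · rintro _ ⟨u, rfl⟩
        exact ⟨jB u, by rw [← Scheme.Hom.comp_apply, ← hkW, Scheme.Hom.comp_apply]⟩
    have sA : IsPullback iA U.ι ιA k := IsOpenImmersion.isPullback iA U.ι ιA k hkU hkA
    have sB : IsPullback jB W.ι ιB k := IsOpenImmersion.isPullback jB W.ι ιB k hkW hkB
    refine IsZariskiLocalAtTarget.of_openCover cov fun t => ?_
    cases t
    · show IsClosedImmersion (pullback.snd k ιA)
      exact sA.flip.isoPullback_inv_snd ▸ inferInstance
    · show IsClosedImmersion (pullback.snd k ιB)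
      exact sB.flip.isoPullback_inv_snd ▸ inferInstance
  · refine (Scheme.Cover.hom_ext (X.openCoverOfIsOpenCover (fun t : ULift.{u} Bool => bif t.down then U else W) ?_) _ _ ?_)
    · refine TopologicalSpace.IsOpenCover.mk (eq_top_iff.2 fun x _ => ?_)
      rcases hcov x with hx | hx
      · exact Opens.mem_iSup.2 ⟨⟨true⟩, hx⟩
      · exact Opens.mem_iSup.2 ⟨⟨false⟩, hx⟩
    · rintro ⟨_ | _⟩
      · show W.ι ≫ k ≫ p = W.ι ≫ f
        rw [reassoc_of% hkW, hpB, reassoc_of% hjB, hjh]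
      · show U.ι ≫ k ≫ p = U.ι ≫ f
        rw [reassoc_of% hkU, hpA, reassoc_of% hiA, hig]

end Groth.Agent.Graft
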